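import Groth.Agent.L07.GeomRk.Sk
import Groth.Agent.L07.GeomRedField
import Groth.Agent.S0601
import Groth.Agent.L27.EtLocal.StalkProps
import Mathlib.AlgebraicGeometry.Morphisms.Smooth

/-!
Geometric (R_k) and geometric normality at the points of a scheme over a field.
-/

universe u

open CategoryTheory CategoryTheory.Limits AlgebraicGeometry TensorProduct Topology

namespace Groth.L07.GeomRk

set_option autoImplicit false
set_option linter.style.haveILetI false
set_option maxSynthPendingDepth 3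
set_option backward.isDefEq.respectTransparency.types false
set_option backward.isDefEq.respectTransparency false

variable {k : Type u} [Field k] {X : Scheme.{u}} (f : X ⟶ Spec (CommRingCat.of k))

/-- The property holds at the points above a point, for the field extensions in a class. -/
def GeomAt (C : ∀ (K : Type u) [Field K] [Algebra k K], Prop) (P : ∀ (R : Type u) [CommRing R], Prop)
    (x : X) : Prop :=
  ∀ (K : Type u) [Field K] [Algebra k K], C K → ∀ (x' : ↥(FBase.bc f K)), (FBase.bcπ f K).base x' = x →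
    P ((FBase.bc f K).presheaf.stalk x')

section Chart

variable {W : X.Opens} (hW : IsAffineOpen W) [Algebra k Γ(X, W)]
  (hφ : hW.fromSpec ≫ f = Spec.map (CommRingCat.ofHom (algebraMap k Γ(X, W))))

include hφ in
/-- A geometric stalkwise property on an affine chart. -/
theorem geomAt_iff (C : ∀ (K : Type u) [Field K] [Algebra k K], Prop) (P : ∀ (R : Type u) [CommRing R], Prop)
    (hP : ∀ (R S : Type u) [CommRing R] [CommRing S], (R ≃+* S) → P R → P S) (x : X) (hxW : x ∈ W) :
    GeomAt f C P x ↔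
      ∀ (K : Type u) [Field K] [Algebra k K], C K → ∀ (Q : Ideal (Γ(X, W) ⊗[k] K)) [Q.IsPrime],
        Q.comap (algebraMap Γ(X, W) (Γ(X, W) ⊗[k] K)) = (hW.primeIdealOf ⟨x, hxW⟩).asIdeal →
          P (Localization.AtPrime Q) := by
  constructor
  · intro h K _ _ hK Q _ hQ
    obtain ⟨c, hc, hc1, -⟩ := Groth.L07.GeomRedField.exists_bc_chart f hW hφ K
    haveI := hc
    let pt : PrimeSpectrum (Γ(X, W) ⊗[k] K) := ⟨Q, inferInstance⟩
    have h1 : (FBase.bcπ f K).base (c.base pt) = x := by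
      rw [← Scheme.Hom.comp_apply, hc1, Scheme.Hom.comp_apply]
      refine Eq.trans ?_ (hW.fromSpec_primeIdealOf ⟨x, hxW⟩)
      exact congrArg hW.fromSpec (PrimeSpectrum.ext hQ)
    have h2 := h K hK (c.base pt) h1
    have h3 := hP _ _ (asIso (c.stalkMap pt)).commRingCatIsoToRingEquiv h2
    exact hP _ _ (Spec.stalkIso (CommRingCat.of (Γ(X, W) ⊗[k] K)) pt).commRingCatIsoToRingEquiv h3
  · intro h K _ _ hK x' hx'
    obtain ⟨c, hc, hc1, hcr⟩ := Groth.L07.GeomRedField.exists_bc_chart f hW hφ K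
    haveI := hc
    obtain ⟨pt, hpt⟩ : x' ∈ Set.range c.base := by rw [hcr, Set.mem_preimage, hx']; exact hxW
    subst hpt
    rw [← Scheme.Hom.comp_apply, hc1, Scheme.Hom.comp_apply] at hx'
    have h1 := h K hK pt.asIdeal
      (congrArg PrimeSpectrum.asIdeal (Groth.L07.FlatGeomReduced.fromSpec_eq hW _ x hxW hx'))
    have h2 := hP _ _ (Spec.stalkIso (CommRingCat.of (Γ(X, W) ⊗[k] K)) pt).commRingCatIsoToRingEquiv.symm h1
    exact hP _ _ (asIso (c.stalkMap pt)).commRingCatIsoToRingEquiv.symm h2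

/-- The local ring on a chart. -/
noncomputable def stalkEquiv (x : X) (hxW : x ∈ W) :
    Localization.AtPrime (hW.primeIdealOf ⟨x, hxW⟩).asIdeal ≃+* X.presheaf.stalk x :=
  letI := X.presheaf.algebra_section_stalk ⟨x, hxW⟩
  haveI : IsLocalization.AtPrime (X.presheaf.stalk x) (hW.primeIdealOf ⟨x, hxW⟩).asIdeal :=
    hW.isLocalization_stalk ⟨x, hxW⟩
  (IsLocalization.algEquiv (hW.primeIdealOf ⟨x, hxW⟩).asIdeal.primeCompl
    (Localization.AtPrime (hW.primeIdealOf ⟨x, hxW⟩).asIdeal) (X.presheaf.stalk x)).toRingEquiv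

theorem dim_stalk (x : X) (hxW : x ∈ W) :
    ringKrullDim (X.presheaf.stalk x) = ((hW.primeIdealOf ⟨x, hxW⟩).asIdeal.height : WithBot ℕ∞) := by
  rw [← ringKrullDim_eq_of_ringEquiv (stalkEquiv hW x hxW),
    IsLocalization.AtPrime.ringKrullDim_eq_height (hW.primeIdealOf ⟨x, hxW⟩).asIdeal]

include hφ in
theorem mem_smoothLocus_iff [LocallyOfFinitePresentation f] [Algebra.FiniteType k Γ(X, W)] (x : X) (hxW : x ∈ W) :
    x ∈ f.smoothLocus ↔ Algebra.IsSmoothAt k (hW.primeIdealOf ⟨x, hxW⟩).asIdeal := by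
  haveI : Algebra.FinitePresentation k Γ(X, W) := Algebra.FinitePresentation.of_finiteType.1 ‹_›
  set p := hW.primeIdealOf ⟨x, hxW⟩
  have hp : hW.fromSpec p = x := hW.fromSpec_primeIdealOf ⟨x, hxW⟩
  let j : ∀ g : Γ(X, W), Spec (CommRingCat.of (Localization.Away g)) ⟶ X := fun g =>
    Spec.map (CommRingCat.ofHom (algebraMap Γ(X, W) (Localization.Away g))) ≫ hW.fromSpec
  have hj : ∀ g, j g ≫ f = Spec.map (CommRingCat.ofHom (algebraMap k (Localization.Away g))) := fun g => by
    rw [Category.assoc, hφ, ← Spec.map_comp]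
    exact congrArg Spec.map (CommRingCat.hom_ext (IsScalarTower.algebraMap_eq k Γ(X, W) (Localization.Away g)).symm)
  haveI : ∀ g, IsOpenImmersion (j g) := fun g => by
    haveI : IsOpenImmersion (Spec.map (CommRingCat.ofHom (algebraMap Γ(X, W) (Localization.Away g)))) :=
      IsOpenImmersion.of_isLocalization g
    exact IsOpenImmersion.comp _ _
  constructor
  · intro h
    have hopen : IsOpen (hW.fromSpec ⁻¹' (f.smoothLocus : Set X)) := f.smoothLocus.2.preimage hW.fromSpec.continuous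
    obtain ⟨_, ⟨_, ⟨g, rfl⟩, rfl⟩, hpg, hsub⟩ := PrimeSpectrum.isBasis_basic_opens.exists_subset_of_mem_open
      (show p ∈ hW.fromSpec ⁻¹' (f.smoothLocus : Set X) from (hp.symm ▸ h : hW.fromSpec p ∈ f.smoothLocus)) hopen
    haveI : Smooth (j g ≫ f) := by
      rw [← Scheme.Hom.smoothLocus_eq_top_iff, ← Scheme.Hom.preimage_smoothLocus_eq]
      refine top_le_iff.1 fun w _ => ?_
      refine hsub ?_
      rw [← PrimeSpectrum.localization_away_comap_range (Localization.Away g) g]
      exact ⟨w, rfl⟩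
    rw [hj] at this
    rw [HasRingHomProperty.Spec_iff (P := @Smooth)] at this
    haveI : Algebra.Smooth k (Localization.Away g) := RingHom.smooth_algebraMap.mp this
    exact (Algebra.basicOpen_subset_smoothLocus_iff_smooth.2 inferInstance) hpg
  · intro h
    haveI := h
    obtain ⟨g, hg, hsm⟩ := Algebra.IsSmoothAt.exists_notMem_smooth k p.asIdeal
    haveI : Smooth (j g ≫ f) := by
      rw [hj, HasRingHomProperty.Spec_iff (P := @Smooth)]
      exact RingHom.smooth_algebraMap.mpr hsm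
    obtain ⟨w, hw⟩ : p ∈ Set.range (PrimeSpectrum.comap (algebraMap Γ(X, W) (Localization.Away g))) := by
      rw [PrimeSpectrum.localization_away_comap_range (Localization.Away g) g]; exact hg
    have h2 : w ∈ j g ⁻¹ᵁ f.smoothLocus := by
      rw [Scheme.Hom.preimage_smoothLocus_eq, Scheme.Hom.smoothLocus_eq_top]
      trivial
    have h3 : j g w = x := (congrArg hW.fromSpec hw).trans hp
    exact h3 ▸ h2

end Chart

theorem exists_chart [LocallyOfFiniteType f] (x : X) : ∃ (W : X.Opens) (hW : IsAffineOpen W) (_ : x ∈ W)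
    (_ : Algebra k Γ(X, W)), Algebra.FiniteType k Γ(X, W) ∧
      hW.fromSpec ≫ f = Spec.map (CommRingCat.ofHom (algebraMap k Γ(X, W))) := by
  obtain ⟨W, hW, hxW, -⟩ := exists_isAffineOpen_mem_and_subset (X := X) (x := x) (U := ⊤) trivial
  obtain ⟨hA, hφ⟩ := Groth.L07.GeomRedField.exists_field_algebra f hW
  refine ⟨W, hW, hxW, hA, ?_, hφ⟩
  letI := hA
  haveI : LocallyOfFiniteType (Spec.map (CommRingCat.ofHom (algebraMap k Γ(X, W)))) := hφ ▸ inferInstance
  exact RingHom.finiteType_algebraMap.mp ((HasRingHomProperty.Spec_iff (P := @LocallyOfFiniteType)).1 this)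

/-- Smoothness at the generisations with local ring of dimension at most `n`. -/
def SmoothGen [LocallyOfFinitePresentation f] (n : ℕ) (x : X) : Prop :=
  ∀ z : X, z ⤳ x → ringKrullDim (X.presheaf.stalk z) ≤ n → z ∈ f.smoothLocus

variable [LocallyOfFinitePresentation f]

theorem hasRk_congr {R S : Type u} [CommRing R] [CommRing S] (n : ℕ) (e : R ≃+* S) (h : LocCoh.HasRk n R) :
    LocCoh.HasRk n S := by
  intro p _ hp
  let q := p.comap e.toRingHom
  haveI : q.IsPrime := Ideal.IsPrime.comap _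
  haveI := h q (le_of_eq_of_le (e.height_comap p) hp)
  exact IsRegularLocalRing.of_ringEquiv (Localization.localRingEquiv q p e rfl)

theorem hasRk_geom_iff (n : ℕ) (C : ∀ (K : Type u) [Field K] [Algebra k K], Prop)
    (hC : ∀ (K : Type u) [Field K] [Algebra k K], Module.Finite k K → C K) (x : X) :
    GeomAt f C (fun R _ => LocCoh.HasRk n R) x ↔ SmoothGen f n x := by
  obtain ⟨W, hW, hxW, hA, hft, hφ⟩ := exists_chart f x
  letI := hA
  haveI := hft
  rw [geomAt_iff f hW hφ C _ (fun R S _ _ e h => hasRk_congr n e h) x hxW]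
  set px := hW.primeIdealOf ⟨x, hxW⟩
  have hle : ∀ (z : X) (hz : z ∈ W), z ⤳ x ↔ (hW.primeIdealOf ⟨z, hz⟩).asIdeal ≤ px.asIdeal := fun z hz => by
    rw [PrimeSpectrum.asIdeal_le_asIdeal, PrimeSpectrum.le_iff_specializes,
      ← hW.fromSpec.isOpenEmbedding.isInducing.specializes_iff, hW.fromSpec_primeIdealOf,
      hW.fromSpec_primeIdealOf]
  constructor
  · intro h z hzx hz
    have hzW : z ∈ W := hzx.mem_open W.2 hxW
    refine (mem_smoothLocus_iff f hW hφ z hzW).2 ?_
    refine smoothUpTo_of_finite px.asIdeal n (fun K _ _ hK => h K (hC K hK)) _ ((hle z hzW).1 hzx) ?_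
    rw [dim_stalk hW z hzW] at hz
    exact_mod_cast hz
  · intro h K _ _ _ Q _ hQ
    refine hasRk_of_smoothUpTo px.asIdeal n (fun q _ hq hh => ?_) K Q hQ
    let z : X := hW.fromSpec ⟨q, inferInstance⟩
    have hzW : z ∈ W := hW.range_fromSpec.subset ⟨_, rfl⟩
    have hpz : hW.primeIdealOf ⟨z, hzW⟩ = ⟨q, inferInstance⟩ :=
      (Groth.L07.FlatGeomReduced.fromSpec_eq hW ⟨q, inferInstance⟩ z hzW rfl).symm
    have hm := (mem_smoothLocus_iff f hW hφ z hzW).1 (h z ((hle z hzW).2 (by rw [hpz]; exact hq)) (by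
      rw [dim_stalk hW z hzW, hpz]
      exact_mod_cast hh))
    exact congr_prime (T := fun W' _ => Algebra.IsSmoothAt k W') (congrArg PrimeSpectrum.asIdeal hpz) hm

theorem normal_congr {R S : Type u} [CommRing R] [CommRing S] (e : R ≃+* S)
    (h : IsDomain R ∧ IsIntegrallyClosed R) : IsDomain S ∧ IsIntegrallyClosed S :=
  Groth.L27.EtLocal.isDomain_isIntegrallyClosed_of_ringEquiv e h

theorem normal_iff_serre (A : Type u) [CommRing A] [IsLocalRing A] [IsNoetherianRing A] :
    (IsDomain A ∧ IsIntegrallyClosed A) ↔ (LocCoh.HasRk 1 A ∧ LocCoh.HasSk 2 A A) :=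
  (Groth.L27.EtLocal.normal_iff_forall_prime A).trans (Groth.Agent.S0601.result A)

theorem hasSk_congr {R S : Type u} [CommRing R] [CommRing S] [IsNoetherianRing R] (n : ℕ) (e : R ≃+* S)
    (h : LocCoh.HasSk n R R) : LocCoh.HasSk n S S := by
  haveI : IsNoetherianRing S := isNoetherianRing_of_ringEquiv R e
  rw [Groth.L06.FlatFibre.hasSk_self_iff] at h ⊢
  intro p _
  let q := p.comap e.toRingHom
  haveI : q.IsPrime := Ideal.IsPrime.comap _
  let e' := Localization.localRingEquiv q p e rfl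
  rw [← ringKrullDim_eq_of_ringEquiv e', ← Groth.L06.FlatFibre.depth_eq_of_ringEquiv e'.symm]
  exact h q

theorem normal_geom_iff (C : ∀ (K : Type u) [Field K] [Algebra k K], Prop)
    (hC : ∀ (K : Type u) [Field K] [Algebra k K], Module.Finite k K → C K) (x : X) :
    GeomAt f C (fun R _ => IsDomain R ∧ IsIntegrallyClosed R) x ↔
      (SmoothGen f 1 x ∧ LocCoh.HasSk 2 (X.presheaf.stalk x) (X.presheaf.stalk x)) := by
  obtain ⟨W, hW, hxW, hA, hft, hφ⟩ := exists_chart f x
  letI := hA
  haveI := hft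
  rw [← hasRk_geom_iff f 1 C hC x, geomAt_iff f hW hφ C _ (fun R S _ _ e h => normal_congr e h) x hxW,
    geomAt_iff f hW hφ C _ (fun R S _ _ e h => hasRk_congr 1 e h) x hxW]
  haveI : IsNoetherianRing Γ(X, W) := Algebra.FiniteType.isNoetherianRing k _
  haveI : ∀ (K : Type u) [Field K] [Algebra k K], IsNoetherianRing (Γ(X, W) ⊗[k] K) :=
    fun K _ _ => isNoetherian_left k Γ(X, W) K
  haveI : IsNoetherianRing (X.presheaf.stalk x) := isNoetherianRing_of_ringEquiv _ (stalkEquiv hW x hxW)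
  constructor
  · intro h
    refine ⟨fun K _ _ hK Q _ hQ => ((normal_iff_serre _).1 (h K hK Q hQ)).1,
      hasSk_congr 2 (stalkEquiv hW x hxW) ?_⟩
    let e := (Algebra.TensorProduct.rid k Γ(X, W) Γ(X, W)).toRingEquiv
    let Q := (hW.primeIdealOf ⟨x, hxW⟩).asIdeal.comap e.toRingHom
    haveI : Q.IsPrime := Ideal.IsPrime.comap _
    have hQ : Q.comap (algebraMap Γ(X, W) (Γ(X, W) ⊗[k] k)) = (hW.primeIdealOf ⟨x, hxW⟩).asIdeal := by
      rw [Ideal.comap_comap]
      refine Eq.trans (congrArg (fun φ => Ideal.comap φ _) ?_) (Ideal.comap_id _)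
      exact RingHom.ext fun a => (Algebra.TensorProduct.rid k Γ(X, W) Γ(X, W)).commutes a
    exact hasSk_congr 2 (Localization.localRingEquiv Q (hW.primeIdealOf ⟨x, hxW⟩).asIdeal e rfl)
      ((normal_iff_serre _).1 (h k (hC k inferInstance) Q hQ)).2
  · rintro ⟨hR, hS⟩ K _ _ hK Q _ hQ
    exact (normal_iff_serre _).2 ⟨hR K hK Q hQ, hasSk_baseChange _ 2
      (hasSk_congr 2 (stalkEquiv hW x hxW).symm hS) K Q hQ⟩

end Groth.L07.GeomRk
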