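import Groth.Agent.L05.Smooth.GeomRegular
import Groth.Agent.L12.CotTSmooth
import Groth.Agent.L06.J2
import Groth.Agent.L20.GenSmooth.Ring
import Groth.Agent.L06.FormalFibres
import Groth.Agent.L06.FlatFibre
import Groth.Agent.L02.CMMor.BaseChange
import Groth.Prelude.Def_EGA4b
import Mathlib.RingTheory.Ideal.KrullsHeightTheorem
import Mathlib.RingTheory.Localization.BaseChange

/-!
Condition (R_k) after all extensions of the base field, for algebras of finite type.
-/

set_option autoImplicit false
set_option linter.style.haveILetI false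
set_option maxSynthPendingDepth 3

universe u

open TensorProduct IsLocalRing

namespace Groth.L07.GeomRk

theorem isNoetherian_left (k S K : Type u) [Field k] [CommRing S] [Algebra k S] [Algebra.FiniteType k S]
    [Field K] [Algebra k K] : IsNoetherianRing (S ⊗[k] K) :=
  haveI := Algebra.FiniteType.isNoetherianRing K (K ⊗[k] S)
  isNoetherianRing_of_ringEquiv (K ⊗[k] S) (Algebra.TensorProduct.comm k K S).toRingEquiv

/-- Condition (R_n) at a prime, prime by prime. -/
theorem hasRk_loc_iff {R : Type u} [CommRing R] (P : Ideal R) [P.IsPrime] (n : ℕ) :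
    LocCoh.HasRk n (Localization.AtPrime P) ↔
      ∀ (Q : Ideal R) [Q.IsPrime], Q ≤ P → Q.height ≤ n → IsRegularLocalRing (Localization.AtPrime Q) := by
  let L := Localization.AtPrime P
  have key : ∀ (Q' : Ideal L) [Q'.IsPrime], Q'.height = (Q'.comap (algebraMap R L)).height ∧
      (IsRegularLocalRing (Localization.AtPrime Q') ↔
        IsRegularLocalRing (Localization.AtPrime (Q'.comap (algebraMap R L)))) := fun Q' _ => by
    let e := (IsLocalization.localizationLocalizationAtPrimeIsoLocalization P.primeCompl Q').toRingEquiv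
    exact ⟨(IsLocalization.height_comap P.primeCompl Q').symm,
      fun h => IsRegularLocalRing.of_ringEquiv e.symm, fun h => IsRegularLocalRing.of_ringEquiv e⟩
  constructor
  · intro h Q _ hQ hh
    let Q' := Q.map (algebraMap R L)
    haveI : Q'.IsPrime := Ideal.isPrime_map_of_isLocalizationAtPrime P hQ
    have hc : Q'.comap (algebraMap R L) = Q := Ideal.under_map_of_isLocalizationAtPrime P hQ
    obtain ⟨h1, h2⟩ := key Q'
    exact Groth.L12.CotTLib.regular_congr hc (h2.1 (h Q' (by rw [h1, hc]; exact hh)))
  · intro h Q' _ hh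
    obtain ⟨h1, h2⟩ := key Q'
    exact h2.2 (h _ ((Ideal.comap_mono (le_maximalIdeal (Ideal.IsPrime.ne_top ‹Q'.IsPrime›))).trans_eq
      (IsLocalization.AtPrime.under_maximalIdeal L P)) (h1 ▸ hh))

variable {k S : Type u} [Field k] [CommRing S] [Algebra k S]

/-- Smoothness at the generisations of height at most `n`. -/
def SmoothUpTo (k : Type u) [Field k] {S : Type u} [CommRing S] [Algebra k S] (x : Ideal S) (n : ℕ) : Prop :=
  ∀ (z : Ideal S) [z.IsPrime], z ≤ x → z.height ≤ n → Algebra.IsSmoothAt k z

attribute [local instance] Algebra.TensorProduct.rightAlgebra in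
/-- The base change of a smooth point is regular. -/
theorem regular_of_smooth_under [Algebra.FiniteType k S] (K : Type u) [Field K] [Algebra k K]
    (Q : Ideal (S ⊗[k] K)) [Q.IsPrime]
    (h : Algebra.IsSmoothAt k (Q.comap (algebraMap S (S ⊗[k] K)))) :
    IsRegularLocalRing (Localization.AtPrime Q) := by
  haveI : Algebra.FinitePresentation k S := Algebra.FinitePresentation.of_finiteType.1 ‹_›
  haveI := h
  obtain ⟨g, hg, hsm⟩ := Algebra.IsSmoothAt.exists_notMem_smooth k (Q.comap (algebraMap S (S ⊗[k] K)))
  let B := S ⊗[k] K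
  let Sg := Localization.Away g
  haveI : Algebra.Smooth k Sg := hsm
  let B' := Sg ⊗[S] B
  let M := Algebra.algebraMapSubmonoid B (Submonoid.powers g)
  haveI : IsLocalization M B' := IsLocalization.tensorRight (S := B) Sg (Submonoid.powers g)
  haveI : IsRegularRing (K ⊗[k] Sg) := Groth.L03.GeomRegular.isRegularRing_of_smooth K _
  haveI : IsRegularRing B' := IsRegularRing.of_ringEquiv
    ((Algebra.TensorProduct.cancelBaseChange k S Sg Sg K).toRingEquiv.trans
      (Algebra.TensorProduct.comm k Sg K).toRingEquiv).symm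
  have hdisj : Disjoint (M : Set B) (Q : Set B) := by
    rw [Set.disjoint_left]
    rintro _ ⟨r, ⟨m, rfl⟩, rfl⟩ hmem
    rw [map_pow] at hmem
    exact hg (Ideal.IsPrime.mem_of_pow_mem ‹Q.IsPrime› m hmem)
  let Q' := Q.map (algebraMap B B')
  haveI : Q'.IsPrime := IsLocalization.isPrime_of_isPrime_disjoint M B' Q ‹_› hdisj
  have hQ : Q'.comap (algebraMap B B') = Q :=
    IsLocalization.under_map_of_isPrime_disjoint M B' ‹_› hdisj
  haveI : IsLocalization.AtPrime (Localization.AtPrime Q') (Q'.comap (algebraMap B B')) :=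
    IsLocalization.isLocalization_isLocalization_atPrime_isLocalization M (Localization.AtPrime Q') Q'
  haveI : IsRegularLocalRing (Localization.AtPrime Q') := IsRegularRing.isRegularLocalRing_localization Q'
  refine Groth.L12.CotTLib.regular_congr hQ ?_
  exact IsRegularLocalRing.of_ringEquiv (IsLocalization.algEquiv (Q'.comap (algebraMap B B')).primeCompl
    (Localization.AtPrime Q') (Localization.AtPrime (Q'.comap (algebraMap B B')))).toRingEquiv

/-- Condition (R_n) after a change of field. -/
theorem hasRk_of_smoothUpTo [Algebra.FiniteType k S] (x : Ideal S) [x.IsPrime] (n : ℕ) (h : SmoothUpTo k x n)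
    (K : Type u) [Field K] [Algebra k K] (P : Ideal (S ⊗[k] K)) [P.IsPrime]
    (hP : P.comap (algebraMap S (S ⊗[k] K)) = x) : LocCoh.HasRk n (Localization.AtPrime P) := by
  haveI : IsNoetherianRing (S ⊗[k] K) := isNoetherian_left k S K
  haveI : IsNoetherianRing S := Algebra.FiniteType.isNoetherianRing k S
  refine (hasRk_loc_iff P n).2 fun Q _ hQP hQ => regular_of_smooth_under K Q ?_
  let p := Q.comap (algebraMap S (S ⊗[k] K))
  haveI : Q.LiesOver p := ⟨rfl⟩
  refine h p (hP ▸ Ideal.comap_mono hQP) (le_trans ?_ hQ)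
  rw [Ideal.height_eq_height_add_of_liesOver_of_hasGoingDown p Q]
  exact le_self_add

/-- Over an algebraically closed field, regular points are smooth. -/
theorem isSmoothAt_of_regular [IsAlgClosed k] [Algebra.FiniteType k S] (z : Ideal S) [z.IsPrime]
    (h : IsRegularLocalRing (Localization.AtPrime z)) : Algebra.IsSmoothAt k z := by
  haveI : Algebra.FinitePresentation k S := Algebra.FinitePresentation.of_finiteType.1 ‹_›
  haveI : IsJacobsonRing S := isJacobsonRing_of_finiteType (A := k) (B := S)
  have hJ2 : EGA4.IsJ2 k := Groth.L06.J2.isJ2_of_finite_domains fun A' _ _ _ hfin => by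
    haveI := hfin
    letI := (isField_of_isIntegral_of_isField' (R := k) (S := A') (Field.toIsField k)).toField
    exact ⟨1, one_ne_zero, fun q _ => (inferInstance : IsRegularRing A').isRegularLocalRing_localization q.asIdeal⟩
  let q : PrimeSpectrum S := ⟨z, ‹_›⟩
  have hne : (EGA4.regLocus S ∩ closure {q}).Nonempty := ⟨q, h, subset_closure rfl⟩
  obtain ⟨m, ⟨hm, hqm⟩, hmax⟩ := nonempty_inter_closedPoints hne
    ((hJ2 S inferInstance).isLocallyClosed.inter isClosed_closure.isLocallyClosed)
  haveI : m.asIdeal.IsMaximal := (PrimeSpectrum.isClosed_singleton_iff_isMaximal m).1 hmax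
  have hsm : m ∈ Algebra.smoothLocus k S :=
    (Groth.L12.CotTLib.isSmoothAt_iff_regular_of_isMaximal m.asIdeal).2 hm
  exact ((specializes_iff_mem_closure.2 hqm).mem_open Algebra.isOpen_smoothLocus hsm :
    q ∈ Algebra.smoothLocus k S)

/-- Heights do not drop along integral extensions. -/
theorem height_le_under {R R' : Type u} [CommRing R] [CommRing R'] [Algebra R R'] [Algebra.IsIntegral R R']
    (Q : Ideal R') [Q.IsPrime] : Q.height ≤ (Q.under R).height := by
  have h1 := PrimeSpectrum.height_eq_orderHeight (⟨Q, ‹_›⟩ : PrimeSpectrum R')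
  have h2 := PrimeSpectrum.height_eq_orderHeight (⟨Q.under R, inferInstance⟩ : PrimeSpectrum R)
  simp only at h1 h2
  rw [h1, h2]
  exact Order.height_le_height_apply_of_strictMono (PrimeSpectrum.comap (algebraMap R R'))
    (fun a b hab => Ideal.IsIntegral.comap_lt_comap (I := a.asIdeal) (J := b.asIdeal) hab) ⟨Q, ‹_›⟩

/-- Smoothness up to height `n` is detected by the finite extensions. -/
theorem smoothUpTo_of_finite [Algebra.FiniteType k S] (x : Ideal S) [x.IsPrime] (n : ℕ)
    (h : ∀ (K : Type u) [Field K] [Algebra k K], Module.Finite k K →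
      ∀ (P : Ideal (S ⊗[k] K)) [P.IsPrime], P.comap (algebraMap S (S ⊗[k] K)) = x →
        LocCoh.HasRk n (Localization.AtPrime P)) : SmoothUpTo k x n := by
  classical
  haveI : Algebra.FinitePresentation k S := Algebra.FinitePresentation.of_finiteType.1 ‹_›
  intro z _ hzx hz
  let Ω := AlgebraicClosure k
  let B := S ⊗[k] Ω
  haveI : IsNoetherianRing B := isNoetherian_left k S Ω
  obtain ⟨⟨xb, hxb'⟩, hxb⟩ := PrimeSpectrum.comap_surjective_of_faithfullyFlat (A := S) (B := B) ⟨x, ‹_›⟩
  haveI := hxb'
  have hxbx : xb.comap (algebraMap S B) = x := congrArg PrimeSpectrum.asIdeal hxb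
  haveI : xb.LiesOver x := ⟨hxbx.symm⟩
  obtain ⟨zb, hzle, hzb', hzlo⟩ := Ideal.exists_ideal_le_liesOver_of_le (S := B) xb (p := z) (q := x) hzx
  haveI := hzb'
  obtain ⟨s, hs⟩ := IsNoetherian.noetherian zb
  obtain ⟨L, hL, hsL⟩ := Groth.L20.GenSmooth.exists_finite_range_of_finset (k := k) (A := S)
    (P := Ω) (s.image (Algebra.TensorProduct.comm k S Ω))
  haveI := hL
  let BL := S ⊗[k] L
  let ι : BL →ₐ[S] B := Algebra.TensorProduct.map (AlgHom.id S S) L.val
  letI : Algebra BL B := ι.toRingHom.toAlgebra
  haveI : IsScalarTower S BL B := IsScalarTower.of_algebraMap_eq fun a => (ι.commutes a).symm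
  haveI : IsNoetherianRing BL := isNoetherian_left k S ↥L
  haveI : Algebra.IsIntegral S B := inferInstance
  haveI : Algebra.IsIntegral BL B := Algebra.IsIntegral.tower_top S
  have hιflat : ι.toRingHom.Flat := RingHom.Flat.tensorProductMap
    (RingHom.Flat.of_bijective Function.bijective_id) (RingHom.flat_algebraMap_iff.mpr (inferInstance : Module.Flat ↥L Ω))
  haveI : Module.Flat BL B := hιflat
  let QL := zb.under BL
  let PL := xb.under BL
  have hzbz : zb.under S = z := hzlo.over.symm
  have hQLz : QL.comap (algebraMap S BL) = z := by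
    rw [← hzbz]
    show (zb.comap (algebraMap BL B)).comap (algebraMap S BL) = zb.comap (algebraMap S B)
    rw [Ideal.comap_comap, ← IsScalarTower.algebraMap_eq]
  have hPLx : PL.comap (algebraMap S BL) = x := by
    rw [← hxbx]
    show (xb.comap (algebraMap BL B)).comap (algebraMap S BL) = xb.comap (algebraMap S B)
    rw [Ideal.comap_comap, ← IsScalarTower.algebraMap_eq]
  have hQLh : QL.height ≤ n := by
    refine le_trans ((height_le_under (R := S) QL).trans_eq ?_) hz
    exact congrArg Ideal.height hQLz
  haveI hreg : IsRegularLocalRing (Localization.AtPrime QL) :=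
    (hasRk_loc_iff PL n).1 (h ↥L hL PL hPLx) QL (Ideal.comap_mono hzle) hQLh
  have hmap : QL.map (algebraMap BL B) = zb := by
    refine le_antisymm Ideal.map_comap_le (hs.ge.trans (Ideal.span_le.2 fun w hw => ?_))
    obtain ⟨v, hv⟩ := hsL _ (Finset.mem_image_of_mem _ hw)
    have hιv : ι (Algebra.TensorProduct.comm k ↥L S v) = w := by
      apply (Algebra.TensorProduct.comm k S Ω).injective
      rw [← hv]
      clear hv hw
      induction v using TensorProduct.induction_on with
      | zero => simp
      | tmul a b => rfl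
      | add a b ha hb => simp only [map_add, ha, hb]
    rw [← hιv]
    exact Ideal.mem_map_of_mem _ (show Algebra.TensorProduct.comm k ↥L S v ∈ zb.comap ι.toRingHom from by
      show ι _ ∈ zb
      rw [hιv, ← hs]
      exact Ideal.subset_span hw)
  let A0 := Localization.AtPrime QL
  let B0 := Localization.AtPrime zb
  let g := Localization.localRingHom QL zb (algebraMap BL B) rfl
  letI : Algebra A0 B0 := g.toAlgebra
  haveI : IsLocalHom (algebraMap A0 B0) := Localization.isLocalHom_localRingHom _ _ _ _
  haveI : Module.Flat A0 B0 :=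
    RingHom.Flat.localRingHom (RingHom.flat_algebraMap_iff.mpr ‹Module.Flat BL B›) _ _ rfl
  haveI : IsRegularLocalRing (EGA4.FibRing A0 B0) := by
    have e : (maximalIdeal A0).map (algebraMap A0 B0) = maximalIdeal B0 := by
      rw [← Localization.AtPrime.map_eq_maximalIdeal, Ideal.map_map,
        ← Localization.AtPrime.map_eq_maximalIdeal (I := zb)]
      refine Eq.trans ?_ (congrArg (Ideal.map (algebraMap B B0)) hmap)
      rw [Ideal.map_map]
      congr 1
      exact RingHom.ext fun r => Localization.localRingHom_to_map QL zb (algebraMap BL B) rfl r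
    letI := Ideal.Quotient.field (maximalIdeal B0)
    exact IsRegularLocalRing.of_ringEquiv (R := B0 ⧸ maximalIdeal B0) (Ideal.quotEquivOfEq e.symm)
  haveI hzreg : IsRegularLocalRing B0 := Groth.L06.FormalFibres.regular_of_flat A0 B0
  let c := (Algebra.TensorProduct.comm k Ω S).toRingEquiv
  let zc : Ideal (Ω ⊗[k] S) := zb.comap c.toRingHom
  haveI : zc.IsPrime := Ideal.IsPrime.comap _
  haveI : Algebra.FiniteType Ω (Ω ⊗[k] S) := inferInstance
  have hzc : IsRegularLocalRing (Localization.AtPrime zc) :=
    IsRegularLocalRing.of_ringEquiv (Localization.localRingEquiv zc zb c rfl).symm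
  have h2 := Groth.L05.Point.isSmoothAt_of_baseChange (P := k) (P' := Ω) (C := S) ⟨zc, inferInstance⟩
    (isSmoothAt_of_regular zc hzc)
  have e : PrimeSpectrum.comap (Algebra.TensorProduct.includeRight : S →ₐ[k] Ω ⊗[k] S).toRingHom
      ⟨zc, inferInstance⟩ = ⟨z, ‹_›⟩ := by
    refine PrimeSpectrum.ext (Eq.trans ?_ hzbz)
    show (zb.comap c.toRingHom).comap _ = zb.comap (algebraMap S B)
    rw [Ideal.comap_comap]
    congr 1
  rw [e] at h2
  exact h2

end Groth.L07.GeomRk
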