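import Groth.Agent.L02.FibDepth.Results
import Groth.Agent.L20.FibreStalk
import Groth.Agent.L00.PullStalk
import Mathlib.LinearAlgebra.TensorProduct.Quotient
import Mathlib.RingTheory.Ideal.AssociatedPrime.Basic

/-!
Relative associated points are the associated points of the fibre modules.
-/

universe u

open CategoryTheory CategoryTheory.Limits AlgebraicGeometry TensorProduct IsLocalRing

namespace Groth.L07.RelAss

set_option autoImplicit false
set_option linter.style.haveILetI false
set_option backward.isDefEq.respectTransparency false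

/-- Restriction of scalars along a surjection preserves associatedness of the maximal ideal. -/
theorem isAssociatedPrime_restrict_iff {A R : Type u} [CommRing A] [IsLocalRing A] [CommRing R] [IsLocalRing R]
    [Algebra A R] (h : Function.Surjective (algebraMap A R)) {P Q : Type u} [AddCommGroup P] [Module R P]
    [Module A P] [IsScalarTower A R P] [AddCommGroup Q] [Module A Q] (e : P ≃ₗ[A] Q) :
    IsAssociatedPrime (maximalIdeal A) Q ↔ IsAssociatedPrime (maximalIdeal R) P := by
  have hmax : (maximalIdeal R).comap (algebraMap A R) = maximalIdeal A :=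
    eq_maximalIdeal (Ideal.comap_isMaximal_of_surjective _ h)
  have hcolon : ∀ x : P, ((⊥ : Submodule R P).colon {x}).comap (algebraMap A R) =
      (⊥ : Submodule A Q).colon {e x} := fun x => by
    ext a
    rw [Ideal.mem_comap, Submodule.mem_colon_singleton, Submodule.mem_colon_singleton, Submodule.mem_bot,
      Submodule.mem_bot, algebraMap_smul, ← map_smul, LinearEquiv.map_eq_zero_iff]
  constructor
  · rintro ⟨-, y, hy⟩
    refine ⟨(maximalIdeal.isMaximal R).isPrime, e.symm y, ?_⟩
    apply Ideal.comap_injective_of_surjective (algebraMap A R) h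
    rw [Ideal.comap_radical, hmax, hcolon, e.apply_symm_apply]
    exact hy
  · rintro ⟨-, x, hx⟩
    refine ⟨(maximalIdeal.isMaximal A).isPrime, e x, ?_⟩
    rw [← hcolon, ← Ideal.comap_radical, ← hx, hmax]

variable {X S : Scheme.{u}} (f : X ⟶ S) (F : X.Modules)

theorem mem_relAss_iff_aux (s : S) (z : ↥(f.fiber s)) {x : X} (hx : f.fiberι s z = x) :
    x ∈ MoreMor.relAss f F ↔ IsAssociatedPrime (maximalIdeal ((f.fiber s).presheaf.stalk z))
      (((Scheme.Modules.pullback (f.fiberι s)).obj F).presheaf.stalk z) := by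
  subst hx
  let J := Ideal.map (f.stalkMap (f.fiberι s z)).hom (maximalIdeal (S.presheaf.stalk (f (f.fiberι s z))))
  letI : Algebra (X.presheaf.stalk (f.fiberι s z)) ((f.fiber s).presheaf.stalk z) :=
    ((f.fiberι s).stalkMap z).hom.toAlgebra
  have hs : Function.Surjective (algebraMap (X.presheaf.stalk (f.fiberι s z)) ((f.fiber s).presheaf.stalk z)) :=
    (Groth.L18.stalkMap_fiberι f s z).1
  have hk : RingHom.ker (algebraMap (X.presheaf.stalk (f.fiberι s z)) ((f.fiber s).presheaf.stalk z)) = J :=
    (Groth.L18.stalkMap_fiberι f s z).2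
  let el : ((Scheme.Modules.pullback (f.fiberι s)).obj F).presheaf.stalk z ≃ₗ[(f.fiber s).presheaf.stalk z]
      (f.fiber s).presheaf.stalk z ⊗[X.presheaf.stalk (f.fiberι s z)] F.presheaf.stalk (f.fiberι s z) :=
    ((Groth.L00.PullStalk.stalkIso (f.fiberι s) z).app F).toLinearEquiv
  let q : (X.presheaf.stalk (f.fiberι s z) ⧸ J) ≃ₗ[X.presheaf.stalk (f.fiberι s z)] (f.fiber s).presheaf.stalk z :=
    (Submodule.quotEquivOfEq _ _ (hk.symm.trans rfl)).trans
      ((Algebra.linearMap (X.presheaf.stalk (f.fiberι s z)) ((f.fiber s).presheaf.stalk z)).quotKerEquivOfSurjective hs)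
  let E := (TensorProduct.congr q.symm (LinearEquiv.refl _ (F.presheaf.stalk (f.fiberι s z)))).trans
    (TensorProduct.quotTensorEquivQuotSMul (F.presheaf.stalk (f.fiberι s z)) J)
  exact (isAssociatedPrime_restrict_iff hs E).trans
    (LinearEquiv.isAssociatedPrime_iff el.symm)

theorem mem_relAss_iff (x : X) : x ∈ MoreMor.relAss f F ↔
    f.asFiber x ∈ AssSch.Ass ((Scheme.Modules.pullback (f.fiberι (f.base x))).obj F) :=
  mem_relAss_iff_aux f F _ _ (f.fiberι_asFiber x)

end Groth.L07.RelAss
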