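import Groth.Agent.L07.GeomRk.Fib

/-!
Constructibility of the component dimensions of a constructible set along the fibres.
-/

universe u

open CategoryTheory CategoryTheory.Limits AlgebraicGeometry Topology
open L02.FibDepth

namespace Groth.L07.GeomRk

set_option autoImplicit false
set_option linter.style.haveILetI false
set_option maxSynthPendingDepth 3
set_option backward.isDefEq.respectTransparency false

variable {X Y : Scheme.{u}} (f : X ⟶ Y) [LocallyOfFinitePresentation f]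

/-- The points with a generisation in `Z`, in the same fibre, of fibre dimension at least `n`. -/
theorem isLocallyConstructible_LD {Z : Set X} (hZ : IsLocallyConstructible Z) (n : ℕ) :
    IsLocallyConstructible (LD (fun x : X => f x) (rd f).δ Z n) := by
  refine isLocallyConstructible_of_charts (hasCharts₀_ring f) fun x ch => ⟨_,
    isConstructible_LD (isConstructible_image f ch hZ) n, fun z => ?_⟩
  constructor
  · rintro ⟨w, hw, hwz, hp, hn⟩
    let wU : ch.U := ⟨w, hwz.mem_open ch.U.2 z.2⟩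
    exact ⟨ch.j wU, ⟨wU, hw, rfl⟩,
      (IsInducing.subtypeVal.specializes_iff.1 (show wU.1 ⤳ z.1 from hwz)).map ch.closedEmbedding.continuous,
      (ch.comap_eq_iff wU z).2 hp, (chart_values f ch wU).symm ▸ hn⟩
  · rintro ⟨q, ⟨w, hw, rfl⟩, hwz, hp, hn⟩
    exact ⟨w.1, hw, (ch.closedEmbedding.isInducing.specializes_iff.1 hwz).map continuous_subtype_val,
      (ch.comap_eq_iff w z).1 hp, (chart_values f ch w) ▸ hn⟩

/-- The generisation-maximal points of `Z` in their fibres with fibre dimension `n` are detected by `LD`. -/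
theorem exists_max_iff (Z : Set X) (n : ℕ) (s : Y) :
    (∃ x, f x = s ∧ x ∈ LD (fun x : X => f x) (rd f).δ Z n \ LD (fun x : X => f x) (rd f).δ Z (n + 1)) ↔
      ∃ z ∈ Z, f z = s ∧ (∀ w ∈ Z, w ⤳ z → f w = f z → w = z) ∧ (rd f).δ z = n := by
  constructor
  · rintro ⟨x, rfl, ⟨z, hz, hzx, hp, hn⟩, hne⟩
    have hle : ∀ w ∈ Z, w ⤳ x → f w = f x → (rd f).δ w ≤ n := fun w hw hwx hpw => by
      by_contra h
      exact hne ⟨w, hw, hwx, hpw, by omega⟩
    refine ⟨z, hz, hp, fun w hw hwz hpw => ?_, le_antisymm (hle z hz hzx hp) hn⟩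
    by_contra hne'
    have h1 := (rd f).strict z w hwz hpw hne'
    have h2 := hle w hw (hwz.trans hzx) (hpw.trans hp)
    omega
  · rintro ⟨z, hz, rfl, hmax, hn⟩
    refine ⟨z, rfl, ⟨z, hz, specializes_rfl, rfl, hn.ge⟩, ?_⟩
    rintro ⟨w, hw, hwz, hp, hw'⟩
    obtain rfl := hmax w hw hwz hp
    omega

/-- The irreducible components of a quasi-sober subspace. -/
theorem components_dims {T : Type*} [TopologicalSpace T] [QuasiSober T] [T0Space T] :
    (fun C : Set T => topologicalKrullDim ↥C) '' irreducibleComponents T =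
      {v | ∃ g : T, (∀ g' : T, g' ⤳ g → g' = g) ∧ v = topologicalKrullDim ↥(closure ({g} : Set T))} := by
  ext v
  constructor
  · rintro ⟨C, hC, rfl⟩
    obtain ⟨g, hg⟩ := QuasiSober.sober hC.1 (isClosed_of_mem_irreducibleComponents C hC)
    refine ⟨g, fun g' hs => ?_, by rw [hg.def]⟩
    have hle : C ⊆ closure {g'} := by
      rw [← hg.def]
      exact closure_minimal (Set.singleton_subset_iff.2 hs.mem_closure) isClosed_closure
    have hge : closure {g'} ⊆ C := hC.2 isIrreducible_singleton.closure hle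
    exact (hs.antisymm (specializes_iff_mem_closure.2 (hg.def.symm ▸ hge (subset_closure rfl)))).eq
  · rintro ⟨g, hmax, rfl⟩
    refine ⟨closure {g}, ⟨isIrreducible_singleton.closure, fun W hW hle => ?_⟩, rfl⟩
    obtain ⟨g', hg'⟩ := QuasiSober.sober hW.closure isClosed_closure
    have he : g' = g := hmax g' (specializes_iff_mem_closure.2 (hg'.def.symm ▸ subset_closure (hle (subset_closure rfl))))
    rw [← he, hg'.def]
    exact subset_closure

theorem dims_eq (Z : Set X) (s : Y) (hZs : IsLocallyClosed (Subtype.val ⁻¹' Z : Set ↥(⇑f ⁻¹' {s}))) :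
    (fun T : Set ↥(Z ∩ ⇑f ⁻¹' {s}) => topologicalKrullDim ↥T) '' irreducibleComponents ↥(Z ∩ ⇑f ⁻¹' {s}) =
      {v : WithBot ℕ∞ | ∃ n : ℕ, v = (n : WithBot ℕ∞) ∧
        ∃ x, f x = s ∧ x ∈ LD (fun x : X => f x) (rd f).δ Z n \ LD (fun x : X => f x) (rd f).δ Z (n + 1)} := by
  obtain ⟨O', C', hO', hC', hOC⟩ := hZs
  obtain ⟨O, hO, rfl⟩ := isOpen_induced_iff.1 hO'
  obtain ⟨C, hC, rfl⟩ := isClosed_induced_iff.1 hC'
  have hT : Z ∩ ⇑f ⁻¹' {s} = (O ∩ C) ∩ ⇑f ⁻¹' {s} := by
    ext x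
    constructor
    · rintro ⟨hxZ, hxs⟩
      exact ⟨(Set.ext_iff.1 hOC ⟨x, hxs⟩).1 hxZ, hxs⟩
    · rintro ⟨hx, hxs⟩
      exact ⟨(Set.ext_iff.1 hOC ⟨x, hxs⟩).2 hx, hxs⟩
  haveI : QuasiSober ↥(Z ∩ ⇑f ⁻¹' {s}) := by
    let O₁ : Set (f.fiber s) := f.fiberι s ⁻¹' O
    let C₁ : Set O₁ := Subtype.val ⁻¹' (f.fiberι s ⁻¹' C)
    haveI : QuasiSober O₁ := (hO.preimage (f.fiberι s).continuous).isOpenEmbedding_subtypeVal.quasiSober
    haveI : QuasiSober C₁ :=
      ((hC.preimage (f.fiberι s).continuous).preimage continuous_subtype_val).isClosedEmbedding_subtypeVal.quasiSober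
    let e : C₁ → ↥(Z ∩ ⇑f ⁻¹' {s}) := fun v => ⟨f.fiberι s v.1.1, hT.symm ▸
      ⟨⟨v.1.2, v.2⟩, (f.range_fiberι s).subset ⟨v.1.1, rfl⟩⟩⟩
    have he : IsEmbedding e := IsEmbedding.codRestrict
      ((f.fiberι s).isEmbedding.comp (IsEmbedding.subtypeVal.comp IsEmbedding.subtypeVal)) _ _
    have hsurj : Function.Surjective e := fun ⟨x, hx⟩ => by
      obtain ⟨⟨hxO, hxC⟩, hxs⟩ := (hT ▸ hx : x ∈ (O ∩ C) ∩ ⇑f ⁻¹' {s})
      obtain ⟨v, rfl⟩ := (f.range_fiberι s).ge hxs
      exact ⟨⟨⟨v, hxO⟩, hxC⟩, rfl⟩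
    have hcl : IsClosedEmbedding e := ⟨he, by rw [hsurj.range_eq]; exact isClosed_univ⟩
    exact (he.toHomeomorphOfSurjective hsurj).symm.isClosedEmbedding.quasiSober
  rw [components_dims]
  let OX : X.Opens := ⟨O, hO⟩
  have hdim : ∀ g : ↥(Z ∩ ⇑f ⁻¹' {s}),
      topologicalKrullDim ↥(closure ({g} : Set ↥(Z ∩ ⇑f ⁻¹' {s}))) = ((rd f).δ g.1 : WithBot ℕ∞) := fun g => by
    obtain ⟨⟨hgO, hgC⟩, hgs⟩ := (hT ▸ g.2 : g.1 ∈ (O ∩ C) ∩ ⇑f ⁻¹' {s})
    rw [show (((rd f).δ g.1 : ℕ) : WithBot ℕ∞) = _ from (dim_closure_asFiber_eq (hasCharts₀_ring f) g.1).symm,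
      dim_closure_asFiber_inter f g.1 (U := OX) hgO]
    refine (Groth.L22.SchemeDim.topologicalKrullDim_eq_of_isEmbedding
      (f := fun v : (closure ({g} : Set ↥(Z ∩ ⇑f ⁻¹' {s}))) => v.1.1)
      (IsEmbedding.subtypeVal.comp IsEmbedding.subtypeVal) ?_).symm
    rw [Set.range_comp', Subtype.range_coe]
    ext x
    constructor
    · rintro ⟨v, hv, rfl⟩
      obtain ⟨⟨hvO, hvC⟩, hvs⟩ := (hT ▸ v.2 : v.1 ∈ (O ∩ C) ∩ ⇑f ⁻¹' {s})
      exact ⟨⟨((specializes_iff_mem_closure.2 hv).map continuous_subtype_val).mem_closure,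
        (show f v.1 = f g.1 from (show f v.1 = s from hvs).trans (show f g.1 = s from hgs).symm)⟩, hvO⟩
    · rintro ⟨⟨hx, hxs⟩, hxO⟩
      have hxs' : f x = s := (show f x = f g.1 from hxs).trans (show f g.1 = s from hgs)
      have hxC : x ∈ C := (specializes_iff_mem_closure.2 hx).mem_closed hC hgC
      let v : ↥(Z ∩ ⇑f ⁻¹' {s}) := ⟨x, hT.symm ▸ ⟨⟨hxO, hxC⟩, hxs'⟩⟩
      exact ⟨v, specializes_iff_mem_closure.1 (IsInducing.subtypeVal.specializes_iff.1
        (show g.1 ⤳ v.1 from specializes_iff_mem_closure.2 hx)), rfl⟩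
  ext v
  constructor
  · rintro ⟨g, hmax, rfl⟩
    refine ⟨(rd f).δ g.1, hdim g, (exists_max_iff f Z _ s).2 ⟨g.1, g.2.1, g.2.2, fun w hw hwg hp => ?_, rfl⟩⟩
    exact congrArg Subtype.val (hmax ⟨w, hw, hp.trans g.2.2⟩
      (IsInducing.subtypeVal.specializes_iff.1 hwg))
  · rintro ⟨n, rfl, hn⟩
    obtain ⟨z, hz, hzs, hmax, rfl⟩ := (exists_max_iff f Z n s).1 hn
    refine ⟨⟨z, hz, hzs⟩, fun w hw => Subtype.ext ?_, (hdim ⟨z, hz, hzs⟩).symm⟩
    exact hmax w.1 w.2.1 (hw.map continuous_subtype_val) (w.2.2.trans hzs.symm)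

variable [QuasiCompact f]

theorem isLocallyConstructible_dims {Z : Set X} (hZ : IsLocallyConstructible Z)
    (hZs : ∀ s : Y, IsLocallyClosed (Subtype.val ⁻¹' Z : Set ↥(⇑f ⁻¹' {s}))) (Φ : Set (WithBot ℕ∞)) :
    IsLocallyConstructible {s : Y |
      (fun T : Set ↥(Z ∩ ⇑f ⁻¹' {s}) => topologicalKrullDim ↥T) '' irreducibleComponents ↥(Z ∩ ⇑f ⁻¹' {s}) = Φ} := by
  classical
  let E : ℕ → Set Y := fun n => f.base '' (LD (fun x : X => f x) (rd f).δ Z n \ LD (fun x : X => f x) (rd f).δ Z (n + 1))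
  have hE : ∀ n, IsLocallyConstructible (E n) := fun n => f.isLocallyConstructible_image
    (Groth.L28.Fib.isLocallyConstructible_diff (isLocallyConstructible_LD f hZ n) (isLocallyConstructible_LD f hZ (n + 1)))
  have hD : ∀ (s : Y) (n : ℕ), ((n : WithBot ℕ∞) ∈ (fun T : Set ↥(Z ∩ ⇑f ⁻¹' {s}) => topologicalKrullDim ↥T) ''
      irreducibleComponents ↥(Z ∩ ⇑f ⁻¹' {s})) ↔ s ∈ E n := fun s n => by
    rw [dims_eq f Z s (hZs s)]
    constructor
    · rintro ⟨m, hm, x, hx, hxm⟩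
      obtain rfl : n = m := by exact_mod_cast hm
      exact ⟨x, hxm, hx⟩
    · rintro ⟨x, hxm, hx⟩
      exact ⟨n, rfl, x, hx, hxm⟩
  intro s₀
  obtain ⟨_, ⟨V, hV, rfl⟩, hsV, -⟩ := Y.isBasis_affineOpens.exists_subset_of_mem_open (Set.mem_univ s₀) isOpen_univ
  have hK : IsCompact (f.base ⁻¹' (V : Set Y)) := f.isCompact_preimage hV.isCompact
  choose U N hU hxU hN using (rd f).bdd
  obtain ⟨t, -, ht, htc⟩ := hK.elim_finite_subcover_image (b := Set.univ) (fun x _ => hU x)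
    (fun x _ => Set.mem_biUnion (Set.mem_univ x) (hxU x))
  let M := ht.toFinset.sup N
  have hbig : ∀ n, M < n → ∀ s ∈ V, s ∉ E n := by
    rintro n hn s hs ⟨x, ⟨⟨z, hz, hzx, hp, hnz⟩, -⟩, rfl⟩
    have hzV : z ∈ f.base ⁻¹' (V : Set Y) := by
      show f z ∈ V
      rw [show f z = f x from hp]; exact hs
    obtain ⟨y, hy, hzy⟩ := Set.mem_iUnion₂.1 (htc hzV)
    have := (hN y z hzy).1
    have : N y ≤ M := Finset.le_sup (f := N) (ht.mem_toFinset.2 hy)
    omega
  let G : Set Y := (⋂ n ∈ Finset.range (M + 1), if (n : WithBot ℕ∞) ∈ Φ then E n else (E n)ᶜ) ∩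
    (if ∀ v ∈ Φ, ∃ n ≤ M, v = (n : WithBot ℕ∞) then Set.univ else ∅)
  have hG : IsLocallyConstructible G := by
    refine IsLocallyConstructible.inter ?_ (by
      split_ifs
      · exact IsConstructible.univ.isLocallyConstructible
      · exact IsConstructible.empty.isLocallyConstructible)
    have key : ∀ t : Finset ℕ, IsLocallyConstructible (⋂ n ∈ t, if (n : WithBot ℕ∞) ∈ Φ then E n else (E n)ᶜ) := by
      intro t
      induction t using Finset.induction_on with
      | empty =>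
        simp only [Finset.notMem_empty, Set.iInter_of_empty, Set.iInter_univ]
        exact IsConstructible.univ.isLocallyConstructible
      | insert a t _ ih =>
        rw [Finset.set_biInter_insert]
        refine IsLocallyConstructible.inter ?_ ih
        split_ifs
        · exact hE a
        · exact Groth.L28.Fib.isLocallyConstructible_compl (hE a)
    exact key _
  have hkey : ∀ s ∈ V, ((fun T : Set ↥(Z ∩ ⇑f ⁻¹' {s}) => topologicalKrullDim ↥T) ''
      irreducibleComponents ↥(Z ∩ ⇑f ⁻¹' {s}) = Φ) ↔ s ∈ G := by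
    intro s hs
    constructor
    · intro h
      refine ⟨Set.mem_iInter₂.2 fun n _ => ?_, ?_⟩
      · split_ifs with hn
        · exact (hD s n).1 (h ▸ hn)
        · exact fun hne => hn (h ▸ (hD s n).2 hne)
      · rw [if_pos fun v hv => ?_]
        · trivial
        rw [← h, dims_eq f Z s (hZs s)] at hv
        obtain ⟨n, rfl, x, hx, hxn⟩ := hv
        refine ⟨n, ?_, rfl⟩
        by_contra hlt
        exact hbig n (by omega) s hs ⟨x, hxn, hx⟩
    · rintro ⟨h1, h2⟩
      have hΦ : ∀ v ∈ Φ, ∃ n ≤ M, v = (n : WithBot ℕ∞) := by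
        by_contra hh
        rw [if_neg hh] at h2
        exact h2
      ext v
      constructor
      · intro hv
        rw [dims_eq f Z s (hZs s)] at hv
        obtain ⟨n, rfl, x, hx, hxn⟩ := hv
        have hnM : n ≤ M := by
          by_contra hlt
          exact hbig n (by omega) s hs ⟨x, hxn, hx⟩
        have := Set.mem_iInter₂.1 h1 n (Finset.mem_range.2 (by omega))
        by_contra hn
        rw [if_neg hn] at this
        exact this ⟨x, hxn, hx⟩
      · intro hv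
        obtain ⟨n, hn, rfl⟩ := hΦ v hv
        have := Set.mem_iInter₂.1 h1 n (Finset.mem_range.2 (by omega))
        rw [if_pos hv] at this
        exact (hD s n).2 this
  obtain ⟨W, hW, hWo, hc⟩ := hG s₀
  refine ⟨W ∩ V, Filter.inter_mem hW (V.2.mem_nhds hsV), hWo.inter V.2, ?_⟩
  refine (congrArg IsConstructible ?_).mp (hc.preimage_of_isOpenEmbedding
    (IsOpenEmbedding.inclusion Set.inter_subset_left ((hWo.inter V.2).preimage continuous_subtype_val)))
  ext ⟨s, hsW, hs⟩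
  exact ⟨fun h => (hkey s hs).2 h, fun h => (hkey s hs).1 h⟩

end Groth.L07.GeomRk
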