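import Groth.Agent.L07.GeomRk.Fib
import Groth.Agent.S0602
import Mathlib.AlgebraicGeometry.Geometrically.Reduced

/-!
Geometric reducedness along the fibres is geometric (R_0) with (S_1).
-/

universe u

open CategoryTheory CategoryTheory.Limits AlgebraicGeometry TensorProduct Topology
open L02.FibDepth

namespace Groth.L07.GeomRk

set_option autoImplicit false
set_option linter.style.haveILetI false
set_option maxSynthPendingDepth 3
set_option backward.isDefEq.respectTransparency.types false
set_option backward.isDefEq.respectTransparency false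

variable {k : Type u} [Field k] {F : Scheme.{u}} (g : F ⟶ Spec (CommRingCat.of k)) [LocallyOfFinitePresentation g]

theorem reduced_geom_iff (x : F) :
    FBase.IsGeomReducedAt g x ↔
      (SmoothGen g 0 x ∧ LocCoh.HasSk 1 (F.presheaf.stalk x) (F.presheaf.stalk x)) := by
  obtain ⟨W, hW, hxW, hA, hft, hφ⟩ := exists_chart g x
  letI := hA
  haveI := hft
  refine Iff.trans (⟨fun h K _ _ _ x' hx' => h K x' hx', fun h K _ _ x' hx' => h K trivial x' hx'⟩ :
    FBase.IsGeomReducedAt g x ↔ GeomAt g (fun _ _ _ => True) (fun R _ => _root_.IsReduced R) x) ?_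
  rw [← hasRk_geom_iff g 0 (fun _ _ _ => True) (fun _ _ _ _ => trivial) x,
    geomAt_iff g hW hφ _ _ (fun R S _ _ e (h : _root_.IsReduced R) => isReduced_of_injective e.symm e.symm.injective) x hxW,
    geomAt_iff g hW hφ _ _ (fun R S _ _ e h => hasRk_congr 0 e h) x hxW]
  haveI : IsNoetherianRing Γ(F, W) := Algebra.FiniteType.isNoetherianRing k _
  haveI : ∀ (K : Type u) [Field K] [Algebra k K], IsNoetherianRing (Γ(F, W) ⊗[k] K) :=
    fun K _ _ => isNoetherian_left k Γ(F, W) K
  haveI : IsNoetherianRing (F.presheaf.stalk x) := isNoetherianRing_of_ringEquiv _ (stalkEquiv hW x hxW)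
  constructor
  · intro h
    refine ⟨fun K _ _ hK Q _ hQ => ((Groth.Agent.S0602.result _).1 (h K hK Q hQ)).1,
      hasSk_congr 1 (stalkEquiv hW x hxW) ?_⟩
    let e := (Algebra.TensorProduct.rid k Γ(F, W) Γ(F, W)).toRingEquiv
    let Q := (hW.primeIdealOf ⟨x, hxW⟩).asIdeal.comap e.toRingHom
    haveI : Q.IsPrime := Ideal.IsPrime.comap _
    have hQ : Q.comap (algebraMap Γ(F, W) (Γ(F, W) ⊗[k] k)) = (hW.primeIdealOf ⟨x, hxW⟩).asIdeal := by
      rw [Ideal.comap_comap]
      refine Eq.trans (congrArg (fun φ => Ideal.comap φ _) ?_) (Ideal.comap_id _)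
      exact RingHom.ext fun a => (Algebra.TensorProduct.rid k Γ(F, W) Γ(F, W)).commutes a
    exact hasSk_congr 1 (Localization.localRingEquiv Q (hW.primeIdealOf ⟨x, hxW⟩).asIdeal e rfl)
      ((Groth.Agent.S0602.result _).1 (h k trivial Q hQ)).2
  · rintro ⟨hR, hS⟩ K _ _ hK Q _ hQ
    exact (Groth.Agent.S0602.result _).2 ⟨hR K hK Q hQ, hasSk_baseChange _ 1
      (hasSk_congr 1 (stalkEquiv hW x hxW).symm hS) K Q hQ⟩

omit [LocallyOfFinitePresentation g] in
theorem geometricallyReduced_iff : GeometricallyReduced g ↔ ∀ x, FBase.IsGeomReducedAt g x := by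
  constructor
  · intro hg x K _ _ x' _
    haveI : AlgebraicGeometry.IsReduced (FBase.bc g K) :=
      geometrically_iff_of_isClosedUnderIsomorphisms.1 hg.geometrically_isReduced K _
    infer_instance
  · intro h
    refine ⟨geometrically_iff_of_isClosedUnderIsomorphisms.2 fun K _ y => ?_⟩
    obtain ⟨φ, rfl⟩ := Spec.map_surjective y
    letI : Algebra k K := φ.hom.toAlgebra
    haveI : ∀ x' : ↥(FBase.bc g K), _root_.IsReduced ((FBase.bc g K).presheaf.stalk x') :=
      fun x' => h _ K x' rfl
    exact isReduced_of_isReduced_stalk (FBase.bc g K)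

variable {X Y : Scheme.{u}} (f : X ⟶ Y) [LocallyOfFinitePresentation f]

theorem reduced_iff (x : X) :
    FBase.IsGeomReducedAt (f.fiberToSpecResidueField (f.base x)) (f.asFiber x) ↔
      (x ∉ Bad f 0 ∧ LocCoh.HasSk 1 (FR f x) (FR f x)) :=
  (reduced_geom_iff (f.fiberToSpecResidueField (f.base x)) (f.asFiber x)).trans
    (and_congr_left' (smoothGen_iff f x 0))

theorem isLocallyConstructible_reduced :
    IsLocallyConstructible ((Bad f 0)ᶜ ∩ {x : X | LocCoh.HasSk 1 (FR f x) (FR f x)}) :=
  (isLocallyConstructible_rk f 0).inter (isLocallyConstructible_sk_ring f 1)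

theorem isLocallyConstructible_geometricallyReduced [QuasiCompact f] :
    IsLocallyConstructible {y : Y | GeometricallyReduced (f.fiberToSpecResidueField y)} := by
  refine (congrArg IsLocallyConstructible (Set.ext fun y => ?_)).mp
    (Groth.L28.Fib.isLocallyConstructible_setOf_fibre_subset_empty f
      (Groth.L28.Fib.isLocallyConstructible_compl (isLocallyConstructible_reduced f)))
  refine Iff.trans ?_ (geometricallyReduced_iff (f.fiberToSpecResidueField y)).symm
  refine Iff.trans ?_ (forall_fiber_iff (f := f)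
    (P := fun s w => FBase.IsGeomReducedAt (f.fiberToSpecResidueField s) w) y).symm
  exact forall_congr' fun x => forall_congr' fun _ => not_not.trans (reduced_iff f x).symm

end Groth.L07.GeomRk
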