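import Groth.Agent.L07.GeomRk.Fib
import Groth.Agent.S2156

/-!
Openness of geometric (R_k) and of geometric normality along the fibres of a flat morphism.
-/

universe u

open CategoryTheory CategoryTheory.Limits AlgebraicGeometry Topology IsLocalRing
open L02.FibDepth

namespace Groth.L07.GeomRk

set_option autoImplicit false
set_option linter.style.haveILetI false
set_option maxSynthPendingDepth 3
set_option backward.isDefEq.respectTransparency false

/-- No embedded primes is condition (S_1). -/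
theorem noEmbedded_iff_hasSk_one (R : Type u) [CommRing R] [IsNoetherianRing R] :
    (∀ p ∈ associatedPrimes R R, p ∈ minimalPrimes R) ↔ LocCoh.HasSk 1 R R := by
  rw [Groth.L06.FlatFibre.hasSk_self_iff]
  have key : ∀ (p : Ideal R) [p.IsPrime],
      p ∈ associatedPrimes R R ↔ LocCoh.depth (Localization.AtPrime p) (Localization.AtPrime p) = 0 := by
    intro p _
    let L := Localization.AtPrime p
    haveI : IsNoetherianRing L := IsLocalization.isNoetherianRing p.primeCompl L inferInstance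
    haveI : IsLocalizedModule p.primeCompl (Algebra.linearMap R L) :=
      (isLocalizedModule_iff_isLocalization' p.primeCompl L).mpr inferInstance
    have h := isAssociatedPrime_maximalIdeal_iff L L
    constructor
    · intro hp
      refine (h.1 ?_).2
      exact Module.associatedPrimes.mem_associatedPrimes_of_comap_mem_associatedPrimes_of_isLocalizedModule
        p.primeCompl (Algebra.linearMap R L) _ (by
          rw [show (maximalIdeal L).comap (algebraMap R L) = p from IsLocalization.AtPrime.under_maximalIdeal L p]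
          exact hp)
    · intro hp
      have := Module.associatedPrimes.comap_mem_associatedPrimes_of_mem_associatedPrimes_of_isLocalizedModule_of_fg
        p.primeCompl (Algebra.linearMap R L) (maximalIdeal L) (h.2 ⟨inferInstance, hp⟩) (IsNoetherian.noetherian _)
      rwa [show (maximalIdeal L).comap (algebraMap R L) = p from IsLocalization.AtPrime.under_maximalIdeal L p] at this
  constructor
  · intro h p _
    by_cases h0 : LocCoh.depth (Localization.AtPrime p) (Localization.AtPrime p) = 0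
    · have hm := h p ((key p).2 h0)
      rw [IsLocalization.AtPrime.ringKrullDim_eq_height p, Ideal.height_eq_zero_iff.2 hm]
      exact le_trans (min_le_right _ _) (WithBot.coe_le_coe.2 zero_le)
    · exact le_trans (min_le_left _ _) (WithBot.coe_le_coe.2 (by
        simpa using Order.one_le_iff_ne_zero.2 h0))
  · intro h p hp
    haveI := IsAssociatedPrime.isPrime hp
    have h0 := h p
    rw [(key p).1 hp, IsLocalization.AtPrime.ringKrullDim_eq_height p] at h0
    refine Ideal.height_eq_zero_iff.1 ?_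
    by_contra hne
    have h1 : ((1 : ℕ) : WithBot ℕ∞) ≤ (p.height : WithBot ℕ∞) := by
      exact_mod_cast Order.one_le_iff_ne_zero.2 hne
    rw [min_eq_left h1] at h0
    exact absurd (WithBot.coe_le_coe.1 (show (((1 : ℕ) : ℕ∞) : WithBot ℕ∞) ≤ ((0 : ℕ∞) : WithBot ℕ∞) from h0)) (by simp)

theorem equidim_iff (R : Type u) [CommRing R] : EGA4.IsEquidimModule R R ↔ EGA4.IsEquidim R := by
  unfold EGA4.IsEquidimModule EGA4.IsEquidim
  rw [Module.annihilator_eq_bot.mpr inferInstance, Module.supportDim_self_eq_ringKrullDim]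

variable {X Y : Scheme.{u}} (f : X ⟶ Y) [LocallyOfFinitePresentation f]

theorem noEmb_ring_iff (x : X) :
    (∀ p ∈ associatedPrimes (FR f x) (FR f x), p ∈ minimalPrimes (FR f x)) ↔ (rd f).SkOK 1 x := by
  haveI : LocallyOfFiniteType (f.fiberToSpecResidueField (f.base x)) := inferInstance
  haveI := LocallyOfFiniteType.isLocallyNoetherian (f.fiberToSpecResidueField (f.base x))
  haveI : IsNoetherianRing (FR f x) := inferInstance
  exact (noEmbedded_iff_hasSk_one (FR f x)).trans (hasSk_iff_model (hasCharts₀_ring f) x 1)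

theorem equi_ring_iff (x : X) : EGA4.IsEquidim (FR f x) ↔ (rd f).Equi x :=
  (equidim_iff (FR f x)).symm.trans (isEquidim_iff_model (hasCharts₀_ring f) x)

variable [Flat f]

theorem NS_eq : NS f = (f.smoothLocus : Set X)ᶜ := by
  ext x
  have hfl : (f.stalkMap x).hom.Flat := Flat.stalkMap f x
  exact not_congr ⟨fun h => (Groth.Agent.S2156.result f x).2 ⟨hfl, h⟩,
    fun h => ((Groth.Agent.S2156.result f x).1 h).2⟩

/-- Geometric (R_k), equidimensionality and absence of embedded components cut out an open set. -/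
theorem isOpen_rk (n : ℕ) : IsOpen {x : X | x ∉ Bad f n ∧ (rd f).Equi x ∧ (rd f).SkOK 1 x} := by
  let D := data (hasCharts_ring f)
  have hU : IsOpen {x : X | (rd f).Equi x ∧ (rd f).SkOK 1 x} := D.isOpen_equi_sk le_rfl
  have hW : IsClosed (NS f) := by
    rw [NS_eq f]
    exact f.smoothLocus.2.isClosed_compl
  rw [isOpen_iff_forall_mem_open]
  rintro x ⟨hx, hU'⟩
  obtain ⟨z₀, hz₀, hzx, hp₀, hb₀, hd₀⟩ := (rd f).exists_min_gen (mem_S f x)
  let c := (rd f).b x + (rd f).δ x
  let T : Set X := {y | ∀ z ∈ (rd f).S, z ⤳ y → f z = f y → (rd f).b z = 0 → (rd f).δ z = c}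
  have hsub : ∀ y, (rd f).Equi y → (rd f).SkOK 1 y →
      ((rd f).b y + (rd f).δ y = c ↔ ∀ z ∈ (rd f).Ass, z ⤳ y → f z = f y → (rd f).δ z ∈ ({c} : Set ℕ)) := by
    intro y he hs
    constructor
    · intro hc z hz hzy hp
      have hb : (rd f).b z = 0 := by
        have := hs z hz.1 hzy hp
        have := hz.2
        omega
      exact (he z hz.1 hzy hp hb).trans hc
    · intro h
      obtain ⟨w, hw, hwy, hpw, hbw, hdw⟩ := (rd f).exists_min_gen (mem_S f y)
      exact hdw ▸ h w ((rd f).mem_Ass_of_b_eq_zero hw hbw) hwy hpw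
  have hC : IsOpen {y : X | ∀ z ∈ (rd f).Ass, z ⤳ y → f z = f y → (rd f).δ z ∈ ({c} : Set ℕ)} :=
    D.isOpen_ass_dim ({c} : Set ℕ)
  have hxc : ∀ z ∈ (rd f).Ass, z ⤳ x → f z = f x → (rd f).δ z ∈ ({c} : Set ℕ) := (hsub x hU'.1 hU'.2).1 rfl
  refine ⟨{y | (rd f).Equi y ∧ (rd f).SkOK 1 y} ∩
    {y | ∀ z ∈ (rd f).Ass, z ⤳ y → f z = f y → (rd f).δ z ∈ ({c} : Set ℕ)} ∩
    (LD (fun x : X => f x) (rd f).δ (NS f) (c - n))ᶜ, ?_,
    (hU.inter hC).inter ((rd f).isClosed_LD _ hW _).isOpen_compl, ⟨⟨hU', hxc⟩, ?_⟩⟩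
  · rintro y ⟨⟨hy, hyc⟩, hLD⟩
    refine ⟨?_, hy⟩
    rintro ⟨z, hz, hzy, hp, hb⟩
    refine hLD ⟨z, hz, hzy, hp, ?_⟩
    have hc := (hsub y hy.1 hy.2).2 hyc
    have h2 : (rd f).b z + (rd f).δ z = c := by
      obtain ⟨w, hw, hwz, hpw, hbw, hdw⟩ := (rd f).exists_min_gen (mem_S f z)
      rw [← hdw, ← hc]
      exact hy.1 w hw (hwz.trans hzy) (hpw.trans hp) hbw
    omega
  · rintro ⟨z, hz, hzx', hp, hn⟩
    refine hx ⟨z, hz, hzx', hp, ?_⟩
    have h2 : (rd f).b z + (rd f).δ z = c := by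
      obtain ⟨w, hw, hwz, hpw, hbw, hdw⟩ := (rd f).exists_min_gen (mem_S f z)
      rw [← hdw]
      exact hU'.1 w hw (hwz.trans hzx') (hpw.trans hp) hbw
    omega

omit [Flat f] in
/-- A geometric property holds at the point itself. -/
theorem of_geomAt {k : Type u} [Field k] {F : Scheme.{u}} (g : F ⟶ Spec (CommRingCat.of k))
    (C : ∀ (K : Type u) [Field K] [Algebra k K], Prop) (hk : C k) (P : ∀ (R : Type u) [CommRing R], Prop)
    (hP : ∀ (R S : Type u) [CommRing R] [CommRing S], (R ≃+* S) → P R → P S) (a : F) (h : GeomAt g C P a) :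
    P (F.presheaf.stalk a) := by
  haveI : IsIso (Spec.map (CommRingCat.ofHom (algebraMap k k))) := by
    rw [show CommRingCat.ofHom (algebraMap k k) = 𝟙 (CommRingCat.of k) from rfl, Spec.map_id]
    infer_instance
  haveI : IsIso (FBase.bcπ g k) := by unfold FBase.bcπ; infer_instance
  let b := (inv (FBase.bcπ g k)).base a
  have hb : (FBase.bcπ g k).base b = a := by
    rw [← Scheme.Hom.comp_apply, IsIso.inv_hom_id]; rfl
  have h1 := hP _ _ (asIso ((FBase.bcπ g k).stalkMap b)).commRingCatIsoToRingEquiv.symm (h k hk b hb)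
  rwa [hb] at h1

theorem equi_of_normal (x : X) (hR : x ∉ Bad f 1) (hS : LocCoh.HasSk 2 (FR f x) (FR f x)) :
    (rd f).Equi x ∧ (rd f).SkOK 1 x := by
  haveI : LocallyOfFiniteType (f.fiberToSpecResidueField (f.base x)) := inferInstance
  haveI := LocallyOfFiniteType.isLocallyNoetherian (f.fiberToSpecResidueField (f.base x))
  obtain ⟨K, hK⟩ : ∃ K : ∀ (L : Type u) [Field L] [Algebra (Y.residueField (f.base x)) L], Prop,
      ∀ (L : Type u) [Field L] [Algebra (Y.residueField (f.base x)) L], K L := ⟨fun _ _ _ => True, fun _ _ _ => trivial⟩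
  have hn := (normal_iff f x K fun L _ _ _ => hK L).2 ⟨hR, hS⟩
  constructor
  · refine (equi_ring_iff f x).1 ?_
    haveI : IsDomain (FR f x) := (of_geomAt (f.fiberToSpecResidueField (f.base x)) K (hK (Y.residueField (f.base x)))
      (fun R _ => IsDomain R ∧ IsIntegrallyClosed R) (fun R S _ _ e h => normal_congr e h) (f.asFiber x) hn).1
    intro p hp
    rw [IsDomain.minimalPrimes_eq_singleton_bot, Set.mem_singleton_iff] at hp
    subst hp
    exact ringKrullDim_eq_of_ringEquiv (RingEquiv.quotientBot _)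
  · intro z hz hzx hp
    have h2 : min 2 ((rd f).b z) ≤ (rd f).a z :=
      (hasSk_iff_model (hasCharts₀_ring f) x 2).1 hS z hz hzx hp
    show min 1 ((rd f).b z) ≤ (rd f).a z
    omega

theorem isOpen_normal : IsOpen {x : X | x ∉ Bad f 1 ∧ LocCoh.HasSk 2 (FR f x) (FR f x)} := by
  have : {x : X | x ∉ Bad f 1 ∧ LocCoh.HasSk 2 (FR f x) (FR f x)} =
      {x : X | x ∉ Bad f 1 ∧ (rd f).Equi x ∧ (rd f).SkOK 1 x} ∩ {x : X | LocCoh.HasSk 2 (FR f x) (FR f x)} := by
    ext x
    exact ⟨fun h => ⟨⟨h.1, equi_of_normal f x h.1 h.2⟩, h.2⟩, fun h => ⟨h.1.1, h.2⟩⟩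
  rw [this]
  exact (isOpen_rk f 1).inter (isOpen_sk_ring f 2)

omit [Flat f] in
theorem normal_pair_openImmersion {U : Scheme.{u}} (j : U ⟶ X) [IsOpenImmersion j] [Flat (j ≫ f)] (x : U) :
    (x ∉ Bad (j ≫ f) 1 ∧ LocCoh.HasSk 2 (FR (j ≫ f) x) (FR (j ≫ f) x)) ↔
      (j x ∉ Bad f 1 ∧ LocCoh.HasSk 2 (FR f (j x)) (FR f (j x))) := by
  have hb : ∀ z : U, (rd (j ≫ f)).b z = (rd f).b (j z) := fun z => by
    obtain ⟨e⟩ := nonempty_FR_openImmersion_comp f j z
    have := ringKrullDim_eq_of_ringEquiv e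
    rw [dim_FR, dim_FR] at this
    exact_mod_cast this
  have hNS : ∀ z : U, z ∈ NS (j ≫ f) ↔ j z ∈ NS f := fun z => by
    rw [NS_eq (j ≫ f), ← Scheme.Hom.preimage_smoothLocus_eq]
    have hfl : (f.stalkMap (j z)).hom.Flat := by
      have h := Flat.stalkMap (j ≫ f) z
      rw [Scheme.Hom.stalkMap_comp, CommRingCat.hom_comp] at h
      have h2 := RingHom.Flat.comp h (RingHom.Flat.of_bijective
        (ConcreteCategory.bijective_of_isIso (inv (j.stalkMap z))))
      rwa [← RingHom.comp_assoc, ← CommRingCat.hom_comp, IsIso.hom_inv_id, CommRingCat.hom_id,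
        RingHom.id_comp] at h2
    exact not_congr ⟨fun h => ((Groth.Agent.S2156.result f (j z)).1 h).2,
      fun h => (Groth.Agent.S2156.result f (j z)).2 ⟨hfl, h⟩⟩
  have hbad : x ∈ Bad (j ≫ f) 1 ↔ j x ∈ Bad f 1 := by
    constructor
    · rintro ⟨z, hz, hzx, hp, hd⟩
      exact ⟨j z, (hNS z).1 hz, hzx.map j.continuous, hp, hb z ▸ hd⟩
    · rintro ⟨z, hz, hzx, hp, hd⟩
      obtain ⟨z, rfl⟩ := hzx.mem_open j.isOpenEmbedding.isOpen_range ⟨x, rfl⟩
      exact ⟨z, (hNS z).2 hz, j.isOpenEmbedding.isInducing.specializes_iff.1 hzx, hp, (hb z).symm ▸ hd⟩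
  obtain ⟨e⟩ := nonempty_FR_openImmersion_comp f j x
  haveI : LocallyOfFiniteType (f.fiberToSpecResidueField (f.base (j x))) := inferInstance
  haveI := LocallyOfFiniteType.isLocallyNoetherian (f.fiberToSpecResidueField (f.base (j x)))
  haveI : IsNoetherianRing (FR f (j x)) := inferInstance
  haveI : IsNoetherianRing (FR (j ≫ f) x) := isNoetherianRing_of_ringEquiv _ e.symm
  exact and_congr (not_congr hbad) ⟨hasSk_congr 2 e, hasSk_congr 2 e.symm⟩

end Groth.L07.GeomRk
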