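import Groth.Agent.L07.GeomRk.Field
import Groth.Agent.L02.FibDepth.LDConstructible
import Groth.Agent.L28.Fib.FibEtale

/-!
Constructibility of geometric (R_k) and geometric normality along the fibres.
-/

universe u

open CategoryTheory CategoryTheory.Limits AlgebraicGeometry Topology
open L02.FibDepth
open Groth.L15.FibrePdSemi (D)

namespace Groth.L07.GeomRk

set_option autoImplicit false
set_option linter.style.haveILetI false
set_option maxSynthPendingDepth 3
set_option backward.isDefEq.respectTransparency false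

variable {X Y : Scheme.{u}} (f : X ⟶ Y) [LocallyOfFinitePresentation f]

instance lfp_fiber (y : Y) : LocallyOfFinitePresentation (f.fiberToSpecResidueField y) :=
  (inferInstance : LocallyOfFinitePresentation (pullback.snd f (Y.fromSpecResidueField y)))

/-- The numerical data of the fibres of `f`. -/
noncomputable abbrev rd : Pre (fun x : X => f x) := preData (hasCharts₀_ring f)

/-- The points where the fibre is not smooth. -/
def NS : Set X := {z | f.asFiber z ∉ (f.fiberToSpecResidueField (f.base z)).smoothLocus}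

theorem isLocallyConstructible_NS : IsLocallyConstructible (NS f) :=
  Groth.L28.Fib.isLocallyConstructible_compl (Groth.L28.Fib.isLocallyConstructible_fibre_smoothLocus f)

theorem mem_S (x : X) : x ∈ (rd f).S := (inferInstance : Nontrivial (FR f x))

theorem dim_FR (x : X) : ringKrullDim (FR f x) = ((rd f).b x : WithBot ℕ∞) := by
  rw [← Module.supportDim_self_eq_ringKrullDim]
  exact supportDim_eq_model (hasCharts₀_ring f) x (mem_S f x)

/-- The points with a non-smooth generisation of height at most `n` in the fibre. -/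
def Bad (n : ℕ) : Set X := {x | ∃ z ∈ NS f, z ⤳ x ∧ f z = f x ∧ (rd f).b z ≤ n}

theorem smoothGen_iff (x : X) (n : ℕ) :
    SmoothGen (f.fiberToSpecResidueField (f.base x)) n (f.asFiber x) ↔ x ∉ Bad f n := by
  refine Iff.trans ⟨fun h w hwx _ => h w ((asFiber_specializes_iff x w).2 hwx),
    fun h w hwx => h w ((asFiber_specializes_iff x w).1 hwx) ((f.range_fiberι (f x)).subset ⟨w, rfl⟩)⟩
    ((forall_fiber_iff (f := f) (P := fun s w => f.fiberι s w ⤳ x → f (f.fiberι s w) = f x →
      ringKrullDim ((f.fiber s).presheaf.stalk w) ≤ n → w ∈ (f.fiberToSpecResidueField s).smoothLocus)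
      (f.base x)).trans ?_)
  constructor
  · rintro h ⟨z, hz, hzx, hp, hb⟩
    exact hz (h z hp (by rwa [f.fiberι_asFiber]) (by rw [f.fiberι_asFiber]; exact hp)
      ((dim_FR f z).trans_le (by exact_mod_cast hb)))
  · intro h z hp hzx _ hd
    by_contra hn
    rw [f.fiberι_asFiber] at hzx
    refine h ⟨z, hn, hzx, hp, ?_⟩
    have := (dim_FR f z).symm.trans_le hd
    exact_mod_cast this

theorem chart_range {x : X} (ch : Chart f (FR f) (FM f (RR f)) x) :
    Set.range ch.j = ZP ch.d ch.d 0 ch.A ch.N := by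
  ext q
  constructor
  · rintro ⟨z, rfl⟩
    exact (mem_ZS_iff (hasCharts₀_ring f) ch z ch.d 0).1
      ⟨mem_S f z.1, sum_le_d (hasCharts₀_ring f) ch z (mem_S f z.1), Nat.zero_le _⟩
  · exact fun h => ch.support_subset h.1

theorem isConstructible_image {x : X} (ch : Chart f (FR f) (FM f (RR f)) x) {Z : Set X}
    (hZ : IsLocallyConstructible Z) : IsConstructible (ch.j '' (Subtype.val ⁻¹' Z)) := by
  haveI : CompactSpace ch.U := ch.closedEmbedding.compactSpace
  haveI : PrespectralSpace ch.U := PrespectralSpace.of_isClosedEmbedding ch.j ch.closedEmbedding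
  haveI : QuasiSeparatedSpace ch.U :=
    QuasiSeparatedSpace.of_isTopologicalBasis
      (b := fun g : P ch.A ch.d => ch.j ⁻¹' (PrimeSpectrum.basicOpen g : Set _))
      (by
        have := PrimeSpectrum.isTopologicalBasis_basic_opens.isInducing ch.closedEmbedding.isInducing
        rwa [← Set.range_comp] at this)
      (fun g h => by
        rw [← Set.preimage_inter, ← TopologicalSpace.Opens.coe_inf, ← PrimeSpectrum.basicOpen_mul]
        exact ch.closedEmbedding.isCompact_preimage (PrimeSpectrum.isCompact_basicOpen _))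
  have hemb : IsOpenEmbedding (Subtype.val : ch.U → X) := ch.U.2.isOpenEmbedding_subtypeVal
  have hl : IsLocallyConstructible (Subtype.val ⁻¹' Z : Set ch.U) := hZ.preimage_of_isOpenEmbedding hemb
  refine hl.isConstructible.image_of_isClosedEmbedding ch.closedEmbedding ?_
  refine (QuasiSeparatedSpace.isRetrocompact_iff_isCompact ch.closedEmbedding.isClosed_range.isOpen_compl).2 ?_
  rw [chart_range f ch]
  exact Groth.L06.Spectral.isCompact_of_isClosed_cons
    (Groth.L06.Spectral.isClopen_cons_of_isConstructible (L02.FibDepth.isConstructible_ZP ch.N ch.d 0).compl).1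

theorem chart_values {x : X} (ch : Chart f (FR f) (FM f (RR f)) x) (z : ch.U) :
    dP (ch.j z) = (rd f).δ z.1 := by
  have h := ch.dl_eq z
  rw [delta_eq_dP] at h
  exact_mod_cast h

theorem isLocallyConstructible_bad (n : ℕ) : IsLocallyConstructible (Bad f n) := by
  refine isLocallyConstructible_of_charts (hasCharts₀_ring f) fun x ch => ?_
  let Zc : ℕ → Set (PrimeSpectrum (P ch.A ch.d)) := fun c => ch.j '' (Subtype.val ⁻¹' NS f) ∩
    (ZP ch.d ch.d c ch.A ch.N \ ZP ch.d ch.d (c + 1) ch.A ch.N)
  refine ⟨⋃ c ∈ Finset.range (ch.d + 1),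
    LD (fun q : PrimeSpectrum (P ch.A ch.d) => PrimeSpectrum.comap (algebraMap ch.A (P ch.A ch.d)) q) dP (Zc c) (c - n),
    isConstructible_biUnion_range _ _ fun c => isConstructible_LD ((isConstructible_image f ch
      (isLocallyConstructible_NS f)).inter ((isConstructible_ZP _ _ _).sdiff (isConstructible_ZP _ _ _))) _,
    fun z => ?_⟩
  simp only [Set.mem_iUnion₂, Finset.mem_range, Nat.lt_succ_iff]
  constructor
  · rintro ⟨w, hw, hwz, hp, hb⟩
    let wU : ch.U := ⟨w, hwz.mem_open ch.U.2 z.2⟩
    obtain ⟨v, -, hvw, -, hv⟩ := ((rd f).le_iff w (mem_S f w) _).1 le_rfl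
    have hd := chart_values f ch wU
    refine ⟨(rd f).b w + (rd f).δ w, hv.trans (δ_le_d (hasCharts₀_ring f) ch ⟨v, (hvw.trans hwz).mem_open ch.U.2 z.2⟩),
      ch.j wU, ⟨⟨wU, hw, rfl⟩, (mem_ZS_iff (hasCharts₀_ring f) ch wU _ _).1
        ⟨mem_S f w, sum_le_d (hasCharts₀_ring f) ch wU (mem_S f w), le_rfl⟩,
        fun h => ?_⟩,
      (IsInducing.subtypeVal.specializes_iff.1 (show wU.1 ⤳ z.1 from hwz)).map ch.closedEmbedding.continuous,
      (ch.comap_eq_iff wU z).2 hp, ?_⟩
    · have h' : (rd f).b w + (rd f).δ w + 1 ≤ (rd f).b w + (rd f).δ w :=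
        ((mem_ZS_iff (hasCharts₀_ring f) ch wU _ _).2 h).2.2
      omega
    · rw [hd]; show _ ≤ (rd f).δ w; omega
  · rintro ⟨c, -, q, ⟨⟨w, hw, rfl⟩, h1, h2⟩, hwz, hp, hn⟩
    refine ⟨w.1, hw, (ch.closedEmbedding.isInducing.specializes_iff.1 hwz).map continuous_subtype_val,
      (ch.comap_eq_iff w z).1 hp, ?_⟩
    rw [chart_values f ch w] at hn
    obtain ⟨hS, ha, hc⟩ := (mem_ZS_iff (hasCharts₀_ring f) ch w _ _).2 h1
    have h3 : ¬ c + 1 ≤ (rd f).b w.1 + (rd f).δ w.1 := fun h =>
      h2 ((mem_ZS_iff (hasCharts₀_ring f) ch w _ _).1 ⟨hS, ha, h⟩)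
    omega

theorem isLocallyConstructible_sk_ring (n : ℕ) :
    IsLocallyConstructible {x : X | LocCoh.HasSk n (FR f x) (FR f x)} := by
  have h := Groth.L28.Fib.isLocallyConstructible_compl (isLocallyConstructible_sk_fail (hasCharts₀_ring f) n)
  convert h using 1
  ext x
  simp only [Set.mem_compl_iff, Set.mem_ofPred_eq, not_not]
  exact hasSk_iff_model (hasCharts₀_ring f) x n

/-- Geometric (R_n) of the fibre, for every extension of the residue field. -/
theorem rk_iff (x : X) (n : ℕ) (C : ∀ (K : Type u) [Field K] [Algebra (Y.residueField (f.base x)) K], Prop)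
    (hC : ∀ (K : Type u) [Field K] [Algebra (Y.residueField (f.base x)) K],
      Module.Finite (Y.residueField (f.base x)) K → C K) :
    GeomAt (f.fiberToSpecResidueField (f.base x)) C (fun R _ => LocCoh.HasRk n R) (f.asFiber x) ↔ x ∉ Bad f n :=
  (hasRk_geom_iff (f.fiberToSpecResidueField (f.base x)) n C hC (f.asFiber x)).trans (smoothGen_iff f x n)

/-- Geometric normality of the fibre. -/
theorem normal_iff (x : X) (C : ∀ (K : Type u) [Field K] [Algebra (Y.residueField (f.base x)) K], Prop)
    (hC : ∀ (K : Type u) [Field K] [Algebra (Y.residueField (f.base x)) K],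
      Module.Finite (Y.residueField (f.base x)) K → C K) :
    GeomAt (f.fiberToSpecResidueField (f.base x)) C (fun R _ => IsDomain R ∧ IsIntegrallyClosed R) (f.asFiber x) ↔
      (x ∉ Bad f 1 ∧ LocCoh.HasSk 2 (FR f x) (FR f x)) :=
  (normal_geom_iff (f.fiberToSpecResidueField (f.base x)) C hC (f.asFiber x)).trans
    (and_congr_left' (smoothGen_iff f x 1))

/-- The geometric (R_n) locus is locally constructible. -/
theorem isLocallyConstructible_rk (n : ℕ) : IsLocallyConstructible (Bad f n)ᶜ :=
  Groth.L28.Fib.isLocallyConstructible_compl (isLocallyConstructible_bad f n)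

theorem isLocallyConstructible_normal :
    IsLocallyConstructible ((Bad f 1)ᶜ ∩ {x : X | LocCoh.HasSk 2 (FR f x) (FR f x)}) :=
  (isLocallyConstructible_rk f 1).inter (isLocallyConstructible_sk_ring f 2)

end Groth.L07.GeomRk
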