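import Groth.Agent.L07.GeomRk.Ring

/-!
Condition (S_n) ascends along changes of the base field.
-/

set_option autoImplicit false
set_option linter.style.haveILetI false
set_option maxSynthPendingDepth 3

universe u

open TensorProduct IsLocalRing

namespace Groth.L07.GeomRk

theorem congr_prime {R : Type u} [CommRing R] {T : ∀ (W : Ideal R), W.IsPrime → Prop} {W W' : Ideal R}
    [hW : W.IsPrime] [hW' : W'.IsPrime] (h : W = W') (hT : T W hW) : T W' hW' := by
  subst h; exact hT

/-- Condition (S_n) at a prime, prime by prime. -/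
theorem hasSk_loc_iff {R : Type u} [CommRing R] [IsNoetherianRing R] (P : Ideal R) [P.IsPrime] (n : ℕ) :
    LocCoh.HasSk n (Localization.AtPrime P) (Localization.AtPrime P) ↔
      ∀ (Q : Ideal R) [Q.IsPrime], Q ≤ P → min (n : WithBot ℕ∞) (ringKrullDim (Localization.AtPrime Q)) ≤
        ((LocCoh.depth (Localization.AtPrime Q) (Localization.AtPrime Q) : ℕ∞) : WithBot ℕ∞) := by
  rw [Groth.L06.FlatFibre.hasSk_self_iff]
  let L := Localization.AtPrime P
  have key : ∀ (Q' : Ideal L) [Q'.IsPrime],
      ringKrullDim (Localization.AtPrime Q') = ringKrullDim (Localization.AtPrime (Q'.comap (algebraMap R L))) ∧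
        LocCoh.depth (Localization.AtPrime Q') (Localization.AtPrime Q') =
          LocCoh.depth (Localization.AtPrime (Q'.comap (algebraMap R L)))
            (Localization.AtPrime (Q'.comap (algebraMap R L))) := fun Q' _ => by
    let e := (IsLocalization.localizationLocalizationAtPrimeIsoLocalization P.primeCompl Q').toRingEquiv
    exact ⟨(ringKrullDim_eq_of_ringEquiv e).symm, Groth.L06.FlatFibre.depth_eq_of_ringEquiv e⟩
  constructor
  · intro h Q _ hQ
    let Q' := Q.map (algebraMap R L)
    haveI : Q'.IsPrime := Ideal.isPrime_map_of_isLocalizationAtPrime P hQ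
    have hc : Q'.comap (algebraMap R L) = Q := Ideal.under_map_of_isLocalizationAtPrime P hQ
    obtain ⟨h1, h2⟩ := key Q'
    have := h Q'
    rw [h1, h2] at this
    exact congr_prime (T := fun W _ => min (n : WithBot ℕ∞) (ringKrullDim (Localization.AtPrime W)) ≤
      ((LocCoh.depth (Localization.AtPrime W) (Localization.AtPrime W) : ℕ∞) : WithBot ℕ∞)) hc this
  · intro h Q' _
    obtain ⟨h1, h2⟩ := key Q'
    rw [h1, h2]
    exact h _ ((Ideal.comap_mono (le_maximalIdeal (Ideal.IsPrime.ne_top ‹Q'.IsPrime›))).trans_eq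
      (IsLocalization.AtPrime.under_maximalIdeal L P))

variable {k S : Type u} [Field k] [CommRing S] [Algebra k S]

/-- The fibres of a change of field satisfy every (S_n). -/
theorem hasSk_fibre [Algebra.FiniteType k S] (K : Type u) [Field K] [Algebra k K] (p : Ideal S) [p.IsPrime]
    (n : ℕ) : LocCoh.HasSk n (p.Fiber (S ⊗[k] K)) (p.Fiber (S ⊗[k] K)) := by
  haveI : Algebra.EssFiniteType k p.ResidueField := Algebra.EssFiniteType.comp k S p.ResidueField
  haveI : IsNoetherianRing (p.ResidueField ⊗[k] K) :=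
    haveI := Algebra.EssFiniteType.isNoetherianRing K (K ⊗[k] p.ResidueField)
    isNoetherianRing_of_ringEquiv (K ⊗[k] p.ResidueField) (Algebra.TensorProduct.comm k K p.ResidueField).toRingEquiv
  let e : p.Fiber (S ⊗[k] K) ≃+* p.ResidueField ⊗[k] K :=
    (Algebra.TensorProduct.cancelBaseChange k S p.ResidueField p.ResidueField K).toRingEquiv
  haveI : IsNoetherianRing (p.Fiber (S ⊗[k] K)) := isNoetherianRing_of_ringEquiv _ e.symm
  exact Groth.L06.FormalFibres.cm_iff_forall_hasSk.1
    (L02.CMMor.isCohenMacaulayRing_of_ringEquiv e.symm (L02.CMMor.isCohenMacaulayRing_tensor k p.ResidueField K)) n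

/-- Condition (S_n) after a change of field. -/
theorem hasSk_baseChange [Algebra.FiniteType k S] (x : Ideal S) [x.IsPrime] (n : ℕ)
    (h : LocCoh.HasSk n (Localization.AtPrime x) (Localization.AtPrime x))
    (K : Type u) [Field K] [Algebra k K] (P : Ideal (S ⊗[k] K)) [P.IsPrime]
    (hP : P.comap (algebraMap S (S ⊗[k] K)) = x) :
    LocCoh.HasSk n (Localization.AtPrime P) (Localization.AtPrime P) := by
  haveI : IsNoetherianRing (S ⊗[k] K) := isNoetherian_left k S K
  haveI : IsNoetherianRing S := Algebra.FiniteType.isNoetherianRing k S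
  refine (hasSk_loc_iff P n).2 fun Q _ hQP => ?_
  let p := Q.comap (algebraMap S (S ⊗[k] K))
  haveI : Q.LiesOver p := ⟨rfl⟩
  have h2 := (hasSk_loc_iff x n).1 h p (hP ▸ Ideal.comap_mono hQP)
  obtain ⟨i, hl, hf, q, hq, ⟨e⟩⟩ := Groth.L06.FlatFibre.exists_local_fibre p Q (S := S ⊗[k] K)
  letI := i
  haveI := hl
  haveI := hf
  haveI := hq
  have h1 := (Groth.L06.FlatFibre.hasSk_self_iff n).1 (hasSk_fibre K p n) q
  haveI : IsNoetherianRing (Localization.AtPrime q) := isNoetherianRing_of_ringEquiv _ e.symm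
  rw [ringKrullDim_eq_of_ringEquiv e, ← Groth.L06.FlatFibre.depth_eq_of_ringEquiv e] at h1
  rw [Groth.L06.FlatFibre.ringKrullDim_eq (Localization.AtPrime p) (Localization.AtPrime Q)]
  refine le_trans ?_ (WithBot.coe_le_coe.mpr
    (Groth.L06.FlatFibre.depth_add_le (Localization.AtPrime p) (Localization.AtPrime Q)))
  rw [WithBot.coe_add]
  refine le_trans ?_ (add_le_add h2 h1)
  have hd1 : (0 : WithBot ℕ∞) ≤ ringKrullDim (Localization.AtPrime p) := ringKrullDim_nonneg_of_nontrivial
  have hd2 : (0 : WithBot ℕ∞) ≤ ringKrullDim (EGA4.FibRing (Localization.AtPrime p) (Localization.AtPrime Q)) :=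
    ringKrullDim_nonneg_of_nontrivial
  have hk : (0 : WithBot ℕ∞) ≤ (n : WithBot ℕ∞) := Nat.cast_nonneg n
  rcases le_total (n : WithBot ℕ∞) (ringKrullDim (Localization.AtPrime p)) with ha | ha
  · rw [min_eq_left ha]
    exact (min_le_left _ _).trans (le_add_of_nonneg_right (le_min hk hd2))
  · rw [min_eq_right ha]
    rcases le_total (n : WithBot ℕ∞)
        (ringKrullDim (EGA4.FibRing (Localization.AtPrime p) (Localization.AtPrime Q))) with hb | hb
    · rw [min_eq_left hb]
      exact (min_le_left _ _).trans (le_add_of_nonneg_left hd1)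
    · rw [min_eq_right hb]
      exact min_le_right _ _

end Groth.L07.GeomRk
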