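import Groth.Agent.L07.GeomRk.ZComp
import Groth.Agent.L02.FibDepth.Results
import Groth.Agent.L19.SupportPullback
import Groth.Agent.L18.LocFreeTilde
import Mathlib.RingTheory.KrullDimension.NonZeroDivisors

/-!
Constructibility of the locus of fibres on which a module is torsion.
-/

universe u

open CategoryTheory CategoryTheory.Limits AlgebraicGeometry Topology TensorProduct
open L02.FibDepth

namespace Groth.L07.GeomRk

set_option autoImplicit false
set_option linter.style.haveILetI false
set_option maxSynthPendingDepth 3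
set_option backward.isDefEq.respectTransparency false

/-- A finite module over a noetherian local domain is torsion iff its support has smaller dimension. -/
theorem torsion_eq_top_iff_supportDim_lt {R M : Type u} [CommRing R] [IsDomain R] [IsNoetherianRing R]
    [IsLocalRing R] [AddCommGroup M] [Module R M] [Module.Finite R M] :
    Submodule.torsion R M = ⊤ ↔ Module.supportDim R M < ringKrullDim R := by
  rw [Module.supportDim_eq_ringKrullDim_quotient_annihilator]
  constructor
  · intro h
    obtain ⟨a, ha, ha0⟩ : ∃ a ∈ Module.annihilator R M, a ≠ 0 := by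
      obtain ⟨G, hG⟩ := Module.Finite.fg_top (R := R) (M := M)
      have hx : ∀ x : M, ∃ a : R, a ≠ 0 ∧ a • x = 0 := fun x => by
        obtain ⟨a, ha⟩ := (h ▸ Submodule.mem_top : x ∈ Submodule.torsion R M)
        exact ⟨a, nonZeroDivisors.ne_zero a.2, ha⟩
      choose a ha hax using hx
      refine ⟨∏ x ∈ G, a x, ?_, Finset.prod_ne_zero_iff.2 fun x _ => ha x⟩
      rw [← Submodule.annihilator_top, ← hG, Submodule.mem_annihilator_span]
      rintro ⟨x, hx⟩
      classical
      rw [← Finset.prod_erase_mul G a (Finset.mem_coe.1 hx), mul_smul]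
      show _ • (a x • x) = 0
      rw [hax, smul_zero]
    refine lt_of_le_of_lt (ringKrullDim_le_of_surjective
      (Ideal.Quotient.factor (S := Ideal.span {a}) (T := Module.annihilator R M)
        ((Ideal.span_singleton_le_iff_mem _).2 ha))
      (Ideal.Quotient.factor_surjective _)) ?_
    have hle := ringKrullDim_quotient_succ_le_of_nonZeroDivisor (mem_nonZeroDivisors_of_ne_zero ha0)
    have hq : ringKrullDim (R ⧸ Ideal.span {a}) ≠ ⊤ := fun hq =>
      ringKrullDim_ne_top (R := R) (top_le_iff.1 (hq ▸ ringKrullDim_quotient_le (Ideal.span {a})))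
    generalize ringKrullDim (R ⧸ Ideal.span {a}) = q at hle hq ⊢
    induction q with
    | bot => exact ringKrullDim_ne_bot.bot_lt
    | coe q =>
      obtain ⟨n, rfl⟩ := ENat.ne_top_iff_exists.1 (fun h0 : q = ⊤ => hq (by rw [h0]; rfl))
      refine lt_of_lt_of_le ?_ hle
      show ((n : ℕ) : WithBot ℕ∞) < ((n : ℕ) : WithBot ℕ∞) + 1
      exact_mod_cast Nat.lt_succ_self n
  · intro h
    have hne : Module.annihilator R M ≠ ⊥ := fun h0 => by
      rw [h0] at h
      exact h.ne (ringKrullDim_eq_of_ringEquiv (RingEquiv.quotientBot R))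
    obtain ⟨a, ha, ha0⟩ := Submodule.exists_mem_ne_zero_of_ne_bot hne
    rw [eq_top_iff]
    intro x _
    exact ⟨⟨a, mem_nonZeroDivisors_of_ne_zero ha0⟩, Module.mem_annihilator.1 ha x⟩

variable {X Y : Scheme.{u}} (f : X ⟶ Y) [LocallyOfFinitePresentation f]

theorem finite_MM (F : X.Modules) (hF : CohB1.IsFP F) (x : X) :
    Module.Finite (FR f x) (FM f (MM f F) x) := by
  letI : Algebra (X.presheaf.stalk (f.fiberι (f x) (f.asFiber x))) (FR f x) :=
    ((f.fiberι (f x)).stalkMap (f.asFiber x)).hom.toAlgebra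
  haveI := Groth.L18.LFP.finite_stalk F hF (f.fiberι (f x) (f.asFiber x))
  let e := ((Groth.L00.PullStalk.stalkIso (f.fiberι (f x)) (f.asFiber x)).app F).toLinearEquiv
  let e' : ((Scheme.Modules.pullback (f.fiberι (f x))).obj F).presheaf.stalk (f.asFiber x) ≃ₗ[FR f x]
      FR f x ⊗[X.presheaf.stalk (f.fiberι (f x) (f.asFiber x))] F.presheaf.stalk (f.fiberι (f x) (f.asFiber x)) := e
  exact Module.Finite.equiv e'.symm

/-- The points at which the module is not torsion on a locally integral fibre. -/
def NT (F : X.Modules) (hF : CohB1.IsFP F) : Set X :=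
  {x | x ∈ (pd f F hF).S ∧ (pd f F hF).b x = (rd f).b x}

theorem b_le (F : X.Modules) (hF : CohB1.IsFP F) {x : X} (hx : x ∈ (pd f F hF).S) :
    (pd f F hF).b x ≤ (rd f).b x := by
  haveI := finite_MM f F hF x
  have := (Module.supportDim_le_ringKrullDim (R := FR f x) (M := FM f (MM f F) x))
  rw [supportDim_eq_model (hasCharts₀_module f F hF) x hx, dim_FR] at this
  exact_mod_cast this

theorem isLocallyConstructible_NT (F : X.Modules) (hF : CohB1.IsFP F) :
    IsLocallyConstructible (NT f F hF) := by
  intro x₀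
  obtain ⟨U, N, hU, hxU, hN⟩ := (rd f).exists_bdd x₀
  let E : Set X := ⋃ c ∈ Finset.range (N + 1),
    {x | x ∈ (pd f F hF).S ∧ (pd f F hF).b x + (pd f F hF).δ x = c} ∩
      {x | x ∈ (rd f).S ∧ (rd f).b x + (rd f).δ x = c}
  have hE : IsLocallyConstructible E :=
    IsLocallyConstructible.biUnion (Finset.finite_toSet _) fun c _ =>
      (isLocallyConstructible_dim_eq (hasCharts₀_module f F hF) c).inter
        (isLocallyConstructible_dim_eq (hasCharts₀_ring f) c)
  have hmem : ∀ z ∈ U, z ∈ NT f F hF ↔ z ∈ E := fun z hz => by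
    simp only [E, Set.mem_iUnion₂, Finset.mem_range, Set.mem_inter_iff, Set.mem_ofPred_eq]
    constructor
    · rintro ⟨hS, hb⟩
      refine ⟨(rd f).b z + (rd f).δ z, Nat.lt_succ_of_le ((hN z hz).2 (mem_S f z)).1, ⟨hS, ?_⟩,
        mem_S f z, rfl⟩
      show (pd f F hF).b z + (rd f).δ z = _
      rw [hb]
    · rintro ⟨c, -, ⟨hS, h1⟩, -, h2⟩
      refine ⟨hS, ?_⟩
      have h3 : (pd f F hF).b z + (rd f).δ z = c := h1
      omega
  obtain ⟨W, hW, hWo, hc⟩ := hE x₀
  refine ⟨W ∩ U, Filter.inter_mem hW (hU.mem_nhds hxU), hWo.inter hU, ?_⟩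
  refine (congrArg IsConstructible ?_).mp (hc.preimage_of_isOpenEmbedding
    (IsOpenEmbedding.inclusion Set.inter_subset_left ((hWo.inter hU).preimage continuous_subtype_val)))
  ext ⟨z, hzW, hz⟩
  exact (hmem z hz).symm

theorem torsion_iff (F : X.Modules) (hF : CohB1.IsFP F) (x : X) [IsDomain (FR f x)] [IsNoetherianRing (FR f x)] :
    Submodule.torsion (FR f x) (FM f (MM f F) x) = ⊤ ↔ x ∉ NT f F hF := by
  haveI := finite_MM f F hF x
  rw [torsion_eq_top_iff_supportDim_lt]
  by_cases hx : x ∈ (pd f F hF).S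
  · rw [supportDim_eq_model (hasCharts₀_module f F hF) x hx, dim_FR]
    have h := b_le f F hF hx
    have : ((((pd f F hF).b x : ℕ) : WithBot ℕ∞) < ((rd f).b x : WithBot ℕ∞)) ↔ (pd f F hF).b x < (rd f).b x := by
      exact_mod_cast Iff.rfl
    exact this.trans ⟨fun hlt hm => hlt.ne hm.2, fun hn => lt_of_le_of_ne h fun he => hn ⟨hx, he⟩⟩
  · haveI : Subsingleton (FM f (MM f F) x) := not_nontrivial_iff_subsingleton.1 hx
    simp only [Module.supportDim_eq_bot_of_subsingleton, bot_lt_iff_ne_bot]
    exact iff_of_true ((dim_FR f x).trans_ne (by simp)) fun h => hx h.1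

/-- The locus of fibres on which the module is torsion is locally constructible. -/
theorem isLocallyConstructible_torsion [QuasiCompact f]
    (F : X.Modules) (hF : CohB1.IsFP F)
    (hint : ∀ (s : Y) (x : ↥(f.fiber s)), IsDomain ((f.fiber s).presheaf.stalk x)) :
    IsLocallyConstructible {s : Y | ∀ x : ↥(f.fiber s),
      Submodule.torsion ((f.fiber s).presheaf.stalk x)
        (((Scheme.Modules.pullback (f.fiberι s)).obj F).presheaf.stalk x) = ⊤} := by
  have h := Groth.L28.Fib.isLocallyConstructible_compl (f.isLocallyConstructible_image (isLocallyConstructible_NT f F hF))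
  convert h using 1
  ext s
  simp only [Set.mem_ofPred_eq, Set.mem_compl_iff, Set.mem_image, not_exists, not_and]
  have key : ∀ x : X, (Submodule.torsion (FR f x) (FM f (MM f F) x) = ⊤ ↔ x ∉ NT f F hF) := fun x => by
    haveI := hint (f x) (f.asFiber x)
    haveI : LocallyOfFiniteType (f.fiberToSpecResidueField (f x)) := locallyOfFiniteType_fiber f (f x)
    haveI : IsLocallyNoetherian (f.fiber (f x)) :=
      LocallyOfFiniteType.isLocallyNoetherian (f.fiberToSpecResidueField (f x))
    exact torsion_iff f F hF x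
  refine Iff.trans (forall_fiber_iff (f := f) (P := fun t w => Submodule.torsion ((f.fiber t).presheaf.stalk w)
    (((Scheme.Modules.pullback (f.fiberι t)).obj F).presheaf.stalk w) = ⊤) s) ?_
  exact ⟨fun h z hz hp => (key z).1 (h z hp) hz, fun h z hp => (key z).2 fun hz => h z hz hp⟩

end Groth.L07.GeomRk
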