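import Groth.Agent.L15.WeakAss
import Mathlib.Algebra.Module.Torsion.Basic
import Mathlib.RingTheory.KrullDimension.Field

/-!
Torsion-free quasi-coherent modules on locally integral noetherian schemes.
-/

set_option autoImplicit false
set_option linter.style.haveILetI false
set_option backward.isDefEq.respectTransparency.types false
set_option backward.isDefEq.respectTransparency false

universe u

open CategoryTheory AlgebraicGeometry TopologicalSpace IsLocalRing

namespace Groth.L07.TorsionFree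

theorem ringKrullDim_zero_iff {R : Type u} [CommRing R] [IsLocalRing R] [IsDomain R] :
    ringKrullDim R = 0 ↔ maximalIdeal R = ⊥ := by
  constructor
  · intro h
    haveI : Ring.KrullDimLE 0 R := Ring.krullDimLE_iff.mpr (le_of_eq h)
    exact ((Ring.KrullDimLE.eq_maximalIdeal_of_isPrime (⊥ : Ideal R))).symm
  · intro h
    exact ringKrullDim_eq_zero_of_isField (IsLocalRing.isField_iff_maximalIdeal_eq.2 h)

variable {X : Scheme.{u}} [IsLocallyNoetherian X] [∀ x : X, IsDomain (X.presheaf.stalk x)]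

/-- Torsion-free stalks iff all associated points have zero-dimensional local rings. -/
theorem torsion_eq_bot_iff (M : X.Modules) [Coh.IsQCoh M] :
    (∀ x : X, Submodule.torsion (X.presheaf.stalk x) (M.presheaf.stalk x) = ⊥) ↔
      ∀ z ∈ AssSch.Ass M, ringKrullDim (X.presheaf.stalk z) = 0 := by
  constructor
  · intro h z hz
    rw [ringKrullDim_zero_iff]
    by_contra hne
    obtain ⟨a, ha, ha0⟩ := Submodule.exists_mem_ne_zero_of_ne_bot hne
    obtain ⟨hpr, y, hy⟩ := (Groth.L19.Ass.mem_iff M z).1 hz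
    obtain ⟨n, hn⟩ := (hy ▸ ha : a ∈ (Submodule.colon ⊥ {y}).radical)
    have hy0 : y ∈ Submodule.torsion (X.presheaf.stalk z) (M.presheaf.stalk z) :=
      ⟨⟨a ^ n, mem_nonZeroDivisors_of_ne_zero (pow_ne_zero n ha0)⟩, Groth.L15.WeakAss.mem_colon.1 hn⟩
    rw [h z, Submodule.mem_bot] at hy0
    apply hpr.ne_top
    rw [hy, hy0, Ideal.radical_eq_top, Ideal.eq_top_iff_one, Groth.L15.WeakAss.mem_colon, smul_zero]
  · intro h x
    rw [eq_bot_iff]
    rintro y ⟨⟨a, ha⟩, hay⟩
    replace hay : a • y = 0 := hay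
    rw [Submodule.mem_bot]
    by_contra hy
    obtain ⟨V, hV, hxV, -⟩ := exists_isAffineOpen_mem_and_subset (x := x) (U := ⊤) trivial
    letI := Groth.L20.ModStalk.stalkModule M hxV
    letI := X.presheaf.algebra_section_stalk ⟨x, hxV⟩
    haveI := hV.isLocalization_stalk ⟨x, hxV⟩
    haveI := Groth.L20.ModStalk.isLocalizedModule_germ M hV hxV
    haveI : IsScalarTower Γ(X, V) (X.presheaf.stalk x) (M.presheaf.stalk x) :=
      IsScalarTower.of_algebraMap_smul fun _ _ => rfl
    let q := (hV.primeIdealOf ⟨x, hxV⟩).asIdeal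
    obtain ⟨⟨n, t⟩, hnt⟩ := IsLocalizedModule.surj q.primeCompl (Groth.L20.ModStalk.germₗ M hxV) y
    obtain ⟨⟨a0, u⟩, hau⟩ := IsLocalization.surj q.primeCompl (S := X.presheaf.stalk x) a
    dsimp only at hnt hau
    have ha0 : a ≠ 0 := nonZeroDivisors.ne_zero ha
    have h1 : Groth.L20.ModStalk.germₗ M hxV (a0 • n) = 0 := by
      rw [map_smul, ← hnt, Submonoid.smul_def, smul_comm, ← algebraMap_smul (X.presheaf.stalk x) a0, ← hau,
        mul_smul, smul_comm a, hay, smul_zero, smul_zero]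
    obtain ⟨w, hw⟩ := (IsLocalizedModule.eq_zero_iff q.primeCompl _).1 h1
    have hle : Submodule.colon (⊥ : Submodule Γ(X, V) Γ(M, V)) {n} ≤ q := fun r hr => by
      by_contra hrq
      have h2 : Groth.L20.ModStalk.germₗ M hxV n = 0 :=
        (IsLocalizedModule.eq_zero_iff q.primeCompl _).2 ⟨⟨r, hrq⟩, Groth.L15.WeakAss.mem_colon.1 hr⟩
      rw [← hnt, Submonoid.smul_def, ← algebraMap_smul (X.presheaf.stalk x)] at h2
      exact hy ((IsUnit.smul_eq_zero (IsLocalization.map_units _ t)).1 h2)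
    have hpr : q.IsPrime := (hV.primeIdealOf ⟨x, hxV⟩).isPrime
    obtain ⟨p, hp, hpq⟩ := Ideal.exists_minimalPrimes_le hle
    haveI := hp.1.1
    let p' : Spec Γ(X, V) := ⟨p, hp.1.1⟩
    have hzV : hV.fromSpec p' ∈ V := Groth.L19.Ass.fromSpec_mem hV p'
    have hpid : (hV.primeIdealOf ⟨hV.fromSpec p', hzV⟩).asIdeal = p :=
      congrArg PrimeSpectrum.asIdeal (Groth.L19.Ass.primeIdealOf_fromSpec hV p' _)
    have hz : hV.fromSpec p' ∈ AssSch.Ass M :=
      Groth.L15.WeakAss.isAssPoint_of_isWeakAssPoint M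
        (Groth.L15.WeakAss.isWeakAssPoint_of_minimal M hV hzV n (by rw [hpid]; exact hp))
    have hmem : (w : Γ(X, V)) * a0 ∈ p := hp.1.2 (Groth.L15.WeakAss.mem_colon.2 (by
      rw [mul_smul]; exact hw))
    letI := X.presheaf.algebra_section_stalk ⟨hV.fromSpec p', hzV⟩
    haveI := hV.isLocalization_stalk ⟨hV.fromSpec p', hzV⟩
    have hmax := (IsLocalization.AtPrime.to_map_mem_maximal_iff (X.presheaf.stalk (hV.fromSpec p'))
      (hV.primeIdealOf ⟨hV.fromSpec p', hzV⟩).asIdeal ((w : Γ(X, V)) * a0)).2 (hpid.symm ▸ hmem)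
    rw [ringKrullDim_zero_iff.1 (h _ hz), Ideal.mem_bot,
      IsLocalization.map_eq_zero_iff (hV.primeIdealOf ⟨hV.fromSpec p', hzV⟩).asIdeal.primeCompl] at hmax
    obtain ⟨⟨k, hk⟩, hk0⟩ := hmax
    have hk' : k ∉ p := hpid ▸ hk
    have h3 := congrArg (algebraMap Γ(X, V) (X.presheaf.stalk x)) hk0
    rw [map_zero, map_mul, map_mul, mul_eq_zero, mul_eq_zero] at h3
    rcases h3 with h3 | h3 | h3
    · obtain ⟨⟨v, hv⟩, hvk⟩ := (IsLocalization.map_eq_zero_iff q.primeCompl _ _).1 h3
      exact hk' ((hp.1.1.mem_or_mem (show v * k ∈ p by rw [show v * k = 0 from hvk]; exact zero_mem p)).resolve_left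
        fun hvp => hv (hpq hvp))
    · exact (IsLocalization.map_units (X.presheaf.stalk x) w).ne_zero h3
    · rw [h3] at hau
      exact ha0 ((IsLocalization.map_units (X.presheaf.stalk x) u).mul_left_eq_zero.1 hau)

end Groth.L07.TorsionFree
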